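import Cfsg.Agent.U6Thompson.Orbits

/-!
Three subgroups of `SU₆(2)` whose product is a Sylow two-subgroup.
-/

set_option autoImplicit false
set_option linter.unusedSectionVars false

namespace Cfsg.Agent.U6Thompson

open Cfsg.Agent.Unitary Cfsg.Agent.RecogB

variable {F : Type*} [Field F] [Fintype F] (hF : Fintype.card F = 2 ^ 2)

/-- The stabiliser of a subspace. -/
def pres (W : Submodule F (Fin 6 → F)) : Subgroup (SU 6 F 2) where
  carrier := {g | ∀ x, x ∈ W ↔ g • x ∈ W}
  one_mem' := fun x => by rw [one_smul]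
  mul_mem' := fun {g h} hg hh x => by rw [mul_smul, ← hg, ← hh]
  inv_mem' := fun {g} hg x => by
    conv_rhs => rw [hg]
    rw [smul_inv_smul]

include hF

/-- The span of the dual frame. -/
noncomputable def LF : Submodule F (Fin 6 → F) := Submodule.span F (Set.range (fv hF))

theorem fv_mem (i : Fin 3) : fv hF i ∈ LF hF := Submodule.subset_span ⟨i, rfl⟩

/-- Elements respecting both frames. -/
noncomputable def Levi : Subgroup (SU 6 F 2) := pres LA ⊓ pres (LF hF)

/-- The first part. -/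
noncomputable def A1 : Subgroup (SU 6 F 2) :=
  Levi hF ⊓ MulAction.stabilizer (SU 6 F 2) (av 0 : Fin 6 → F) ⊓
    MulAction.stabilizer (SU 6 F 2) (av 1 : Fin 6 → F) ⊓
    MulAction.stabilizer (SU 6 F 2) (fv hF 2)

/-- The second part. -/
noncomputable def A2 : Subgroup (SU 6 F 2) :=
  Levi hF ⊓ MulAction.stabilizer (SU 6 F 2) (av 0 : Fin 6 → F) ⊓
    MulAction.stabilizer (SU 6 F 2) (av 2 : Fin 6 → F) ⊓
    MulAction.stabilizer (SU 6 F 2) (fv hF 1) ⊓ MulAction.stabilizer (SU 6 F 2) (fv hF 2)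

theorem mem_A1 {g : SU 6 F 2} : g ∈ A1 hF ↔ g ∈ Levi hF ∧ g • (av 0 : Fin 6 → F) = av 0 ∧
    g • (av 1 : Fin 6 → F) = av 1 ∧ g • fv hF 2 = fv hF 2 := by
  simp [A1, Subgroup.mem_inf, MulAction.mem_stabilizer_iff, and_assoc]

theorem mem_A2 {g : SU 6 F 2} : g ∈ A2 hF ↔ g ∈ Levi hF ∧ g • (av 0 : Fin 6 → F) = av 0 ∧
    g • (av 2 : Fin 6 → F) = av 2 ∧ g • fv hF 1 = fv hF 1 ∧ g • fv hF 2 = fv hF 2 := by
  simp [A2, Subgroup.mem_inf, MulAction.mem_stabilizer_iff, and_assoc]

theorem lev_mem_Levi {i j : Fin 3} (hij : i ≠ j) (s : F) : lev hF hij s ∈ Levi hF := by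
  have one : ∀ (W : Submodule F (Fin 6 → F)), (∀ x ∈ W, lev hF hij s • x ∈ W) →
      lev hF hij s ∈ pres W := fun W h x => ⟨h x, fun hx => by
    have := h _ hx
    rwa [← mul_smul, lev_sq, one_smul] at this⟩
  refine ⟨one _ fun x hx => ?_, one _ fun x hx => ?_⟩
  · induction hx using Submodule.span_induction with
    | mem y hy =>
      obtain ⟨k, rfl⟩ := hy
      rw [lev_av]
      exact add_mem (av_mem _) (Submodule.smul_mem _ _ (av_mem _))
    | zero => rw [smul_zero]; exact zero_mem _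
    | add a b _ _ ha hb => rw [smul_add]; exact add_mem ha hb
    | smul a y _ hy => rw [smul_comm]; exact Submodule.smul_mem _ _ hy
  · induction hx using Submodule.span_induction with
    | mem y hy =>
      obtain ⟨k, rfl⟩ := hy
      rw [lev_fv]
      exact add_mem (fv_mem hF _) (Submodule.smul_mem _ _ (fv_mem hF _))
    | zero => rw [smul_zero]; exact zero_mem _
    | add a b _ _ ha hb => rw [smul_add]; exact add_mem ha hb
    | smul a y _ hy => rw [smul_comm]; exact Submodule.smul_mem _ _ hy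

theorem conj_E_of_Levi {w e : SU 6 F 2} (hw : w ∈ Levi hF) (he : e ∈ E) : w * e * w⁻¹ ∈ E :=
  mem_E.2 fun i => by
    rw [mul_smul, mul_smul, fix_LA hF he (((pres LA).inv_mem hw.1 _).1 (av_mem i)), smul_inv_smul]

theorem eq_one_of_E_Levi {g : SU 6 F 2} (hg : g ∈ E) (hl : g ∈ Levi hF) : g = 1 := by
  refine key_injective hF hg (one_mem _) fun i j => ?_
  rw [key_one, key, nil, herm_add_left]
  have h : g • fv hF i ∈ LF hF := (hl.2 _).1 (fv_mem hF i)
  have h0 : ∀ x ∈ LF hF, herm 2 x (fv hF j) = 0 := fun x hx => by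
    induction hx using Submodule.span_induction with
    | mem y hy => obtain ⟨k, rfl⟩ := hy; exact herm_fv_fv hF k j
    | zero => exact herm_zero_left _
    | add a b _ _ ha hb => rw [herm_add_left, ha, hb, add_zero]
    | smul a y _ hy => rw [herm_smul_left, hy, mul_zero]
  rw [h0 _ h, herm_fv_fv hF, add_zero]

theorem A1_normalizes {w u : SU 6 F 2} (hw : w ∈ A2 hF) (hu : u ∈ A1 hF) :
    w * u * w⁻¹ ∈ A1 hF := by
  obtain ⟨hwl, hw0, hw2, hwf1, hwf2⟩ := (mem_A2 hF).1 hw
  obtain ⟨hul, hu0, hu1, huf⟩ := (mem_A1 hF).1 hu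
  have inv : ∀ {x : Fin 6 → F}, w • x = x → w⁻¹ • x = x := fun h => by
    conv_lhs => rw [← h]
    rw [inv_smul_smul]
  refine (mem_A1 hF).2 ⟨mul_mem (mul_mem hwl hul) (inv_mem hwl), ?_, ?_, ?_⟩
  · rw [mul_smul, mul_smul, inv hw0, hu0, hw0]
  · set z := w⁻¹ • (av 1 : Fin 6 → F) with hz
    have hzA : z ∈ LA := ((pres LA).inv_mem hwl.1 _).1 (av_mem 1)
    have h2 : herm 2 z (fv hF 2) = 0 := by
      rw [hz, ← herm_smul_SU w, smul_inv_smul, hwf2, herm_av_fv hF]
      rfl
    have huz : u • z = z := by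
      rw [expand hF z, Fin.sum_univ_three]
      simp only [orth_LA hF hzA, h2, zero_smul, add_zero, smul_add, smul_comm u, hu0, hu1]
    rw [mul_smul, mul_smul, huz, hz, smul_inv_smul]
  · rw [mul_smul, mul_smul, inv hwf2, huf, hwf2]

theorem product_eq_one {a b e : SU 6 F 2} (ha : a ∈ A2 hF) (hb : b ∈ A1 hF) (he : e ∈ E)
    (h : a * b * e = 1) : a = 1 ∧ b = 1 ∧ e = 1 := by
  obtain ⟨hal, ha0, ha2, -, -⟩ := (mem_A2 hF).1 ha
  obtain ⟨hbl, hb0, hb1, -⟩ := (mem_A1 hF).1 hb
  have e1 : a • (av 1 : Fin 6 → F) = av 1 := by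
    have := congrArg (fun g : SU 6 F 2 => g • (av 1 : Fin 6 → F)) h
    simpa [mul_smul, mem_E.1 he 1, hb1] using this
  have haE : a ∈ E := mem_E.2 fun i => by fin_cases i <;> assumption
  obtain rfl := eq_one_of_E_Levi hF haE hal
  rw [one_mul] at h
  have hbE : b ∈ E := by rw [eq_inv_of_mul_eq_one_left h]; exact inv_mem he
  obtain rfl := eq_one_of_E_Levi hF hbE hbl
  rw [one_mul] at h
  exact ⟨rfl, rfl, h⟩

theorem card_A1 : 2 ^ 4 ≤ Nat.card (A1 hF) := by
  have h02 : (0 : Fin 3) ≠ 2 := by decide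
  have h12 : (1 : Fin 3) ≠ 2 := by decide
  have hm : ∀ p : F × F, lev hF h02 p.1 * lev hF h12 p.2 ∈ A1 hF := fun p =>
    mul_mem ((mem_A1 hF).2 ⟨lev_mem_Levi hF _ _, by simp [lev_av], by simp [lev_av], by simp [lev_fv]⟩)
      ((mem_A1 hF).2 ⟨lev_mem_Levi hF _ _, by simp [lev_av], by simp [lev_av], by simp [lev_fv]⟩)
  have := Nat.card_le_card_of_injective (fun p => (⟨_, hm p⟩ : A1 hF)) fun p q h => by
    have h' : lev hF h02 p.1 * lev hF h12 p.2 = lev hF h02 q.1 * lev hF h12 q.2 := Subtype.ext_iff.1 h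
    have e0 := congrArg (fun g : SU 6 F 2 => herm 2 (g • fv hF 0) (av 2)) h'
    have e1 := congrArg (fun g : SU 6 F 2 => herm 2 (g • fv hF 1) (av 2)) h'
    simp [mul_smul, lev_fv, smul_add, smul_comm, herm_add_left, herm_smul_left, herm_fv_av hF] at e0 e1
    exact Prod.ext e0 e1
  rwa [Nat.card_prod, Nat.card_eq_fintype_card, hF] at this

theorem card_A2 : 2 ^ 2 ≤ Nat.card (A2 hF) := by
  have h01 : (0 : Fin 3) ≠ 1 := by decide
  have hm : ∀ r : F, lev hF h01 r ∈ A2 hF := fun r => (mem_A2 hF).2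
    ⟨lev_mem_Levi hF _ _, by simp [lev_av], by simp [lev_av], by simp [lev_fv], by simp [lev_fv]⟩
  have := Nat.card_le_card_of_injective (fun r => (⟨_, hm r⟩ : A2 hF)) fun p q h => by
    have h' : lev hF h01 p = lev hF h01 q := Subtype.ext_iff.1 h
    have e0 := congrArg (fun g : SU 6 F 2 => herm 2 (g • fv hF 0) (av 1)) h'
    simpa [lev_fv, herm_add_left, herm_smul_left, herm_fv_av hF] using e0
  rwa [Nat.card_eq_fintype_card, hF] at this

/-- A second isotropic frame with a dual can be moved to the standard one. -/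
theorem exists_conj_frame (w v : Fin 3 → Fin 6 → F) (hw : ∀ i j, herm 2 (w i) (w j) = 0)
    (hd : ∀ i j, herm 2 (w i) (v j) = if i = j then 1 else 0) :
    ∃ g : SU 6 F 2, ∀ u : SU 6 F 2, (∀ i, u • w i = w i) → g * u * g⁻¹ ∈ E := by
  classical
  have hli : LinearIndependent F w := by
    rw [Fintype.linearIndependent_iff]
    intro a ha j
    have := congrArg (fun x => herm 2 x (v j)) ha
    simpa [herm_sum_left, herm_smul_left, hd, Finset.sum_ite_eq'] using this
  let W := Submodule.span F (Set.range w)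
  have hW : ∀ x ∈ W, ∀ y ∈ W, herm 2 x y = 0 := by
    intro x hx y hy
    induction hx using Submodule.span_induction with
    | mem a ha =>
      obtain ⟨i, rfl⟩ := ha
      induction hy using Submodule.span_induction with
      | mem z hz => obtain ⟨j, rfl⟩ := hz; exact hw i j
      | zero => exact herm_zero_right hF _
      | add z z' _ _ h h' => rw [herm_add_right hF, h, h', add_zero]
      | smul a z _ h => rw [herm_smul_right hF, h, mul_zero]
    | zero => exact herm_zero_left _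
    | add z z' _ _ h h' => rw [herm_add_left, h, h', add_zero]
    | smul a z _ h => rw [herm_smul_left, h, mul_zero]
  have h3 : Module.finrank F W = 3 := by simp [W, finrank_span_eq_card hli]
  obtain ⟨g, hg⟩ := exists_into_LA hF W hW h3.le
  refine ⟨g, fun u hu => mem_E.2 fun i => ?_⟩
  let L : (Fin 6 → F) →ₗ[F] (Fin 6 → F) := DistribSMul.toLinearMap F (Fin 6 → F) g
  have hL : Function.Injective L := MulAction.injective g
  have hmap : W.map L = LA := Submodule.eq_of_le_of_finrank_le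
    (Submodule.map_le_iff_le_comap.2 hg)
    (by rw [← (Submodule.equivMapOfInjective L hL W).finrank_eq, h3]; exact finrank_LA_le hF)
  obtain ⟨x, hx, he⟩ : (av i : Fin 6 → F) ∈ W.map L := hmap ▸ av_mem i
  have hfix : ∀ y ∈ W, u • y = y := fun y hy => by
    induction hy using Submodule.span_induction with
    | mem z hz => obtain ⟨j, rfl⟩ := hz; exact hu j
    | zero => exact smul_zero _
    | add a b _ _ ha hb => rw [smul_add, ha, hb]
    | smul a z _ hz => rw [smul_comm, hz]
  have he' : g • x = av i := he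
  rw [← he', mul_smul, mul_smul, inv_smul_smul, hfix x hx]

end Cfsg.Agent.U6Thompson
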