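import Cfsg.Agent.U6Thompson.Image
import Cfsg.Agent.U6Thompson.Sylow
import Mathlib.GroupTheory.Transfer
import Mathlib.GroupTheory.NoncommCoprod

/-!
The number of conjugates of the central involution in the preimage of the radical.
-/

set_option autoImplicit false
set_option linter.unusedSectionVars false
set_option synthInstance.maxSize 4000

namespace Cfsg.Agent.U6Thompson

open Cfsg.Agent.Unitary Cfsg.Agent.RecogB
open scoped Pointwise

/-- The sum of two tuples of coordinates. -/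
def padd (p q : Par) : Par := mkPar fun k l => fadd (mat p k l) (mat q k l)

theorem single_split : ∀ p : Par,
    p = padd (p.1, 0, 0, 0, 0, 0) (padd (0, p.2.1, 0, 0, 0, 0) (padd (0, 0, p.2.2.1, 0, 0, 0)
      (padd (0, 0, 0, p.2.2.2.1, 0, 0) (padd (0, 0, 0, 0, p.2.2.2.2.1, 0) (0, 0, 0, 0, 0, p.2.2.2.2.2))))) := by
  decide +kernel

/-- Tuples with one nonzero entry. -/
theorem single_cls : ∀ (a : Fin 2) (x : Fin 4),
    ((a = 0 ∨ cls (a, 0, 0, 0, 0, 0) < 2) ∧ (a = 0 ∨ cls (0, a, 0, 0, 0, 0) < 2) ∧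
      (a = 0 ∨ cls (0, 0, a, 0, 0, 0) < 2)) ∧
    ((x = 0 ∨ cls (0, 0, 0, x, 0, 0) < 2) ∧ (x = 0 ∨ cls (0, 0, 0, 0, x, 0) < 2) ∧
      (x = 0 ∨ cls (0, 0, 0, 0, 0, x) < 2)) := by
  decide +kernel

theorem cls_rep : ∀ r : Fin 3, cls (rep r.val) = r.val ∧ rep r.val ≠ (0, 0, 0, 0, 0, 0) := by
  decide +kernel

theorem bad_primes : ∀ f < 10, ∀ p ∈ [211, 281, 491, 29, 151, 97, 257], ¬ p ∣ 2 ^ 10 - 2 ^ f := by
  decide +kernel

variable {F : Type*} [Field F] [Fintype F] (hF : Fintype.card F = 2 ^ 2)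
  {C : Type*} [Group C] [Finite C] (π : C →* PSU 6 F 2) (hπ : Function.Surjective π) (d : C)
  (hker : ∀ c, π c = 1 ↔ c = 1 ∨ c = d) (hdd : d * d = 1) (hd1 : d ≠ 1)
  (hdc : ∀ c : C, c * d = d * c)
  (P : C → Prop) (hPd : P d) (hP1 : ¬ P 1) (hPc : ∀ c x, P (c * x * c⁻¹) ↔ P x)
  (hPsq : ∀ y, ¬ P (y * y)) (hPinv : ∀ x, P x → x * x = 1) (hNW : ∃ x, P x ∧ x ≠ d)
  (hT : ∀ (x : C) (hx : x ∈ Ab π), P x → ∃ φ : Ab π ≃* Ab π,
    (∀ a : Ab π, (a : C) = d → φ a = ⟨x, hx⟩) ∧ ∀ a, P (φ a : C) ↔ P (a : C))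
  (hperf : commutator C = ⊤)

include hF hπ hker hdd hd1 hdc hPd hP1 hPc hPsq hPinv hNW hT hperf

theorem pi_d : π d = 1 := (hker d).2 (Or.inr rfl)

theorem d_mem : d ∈ Ab π := by
  show π d ∈ Eb
  rw [(hker d).2 (Or.inr rfl)]
  exact one_mem _

omit hF hπ hdd hd1 hdc hPd hP1 hPc hPsq hPinv hNW hT hperf in
theorem lift_cases {y y' : C} (h : π y = π y') : y' = y ∨ y' = y * d :=
  CoverInvolution.lift_eq π d hker h

/-- The selected lifts over a tuple of coordinates. -/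
noncomputable def fib (p : Par) : Finset C :=
  letI := Fintype.ofFinite C
  letI := Classical.decPred fun x : C => π x = im (elt hF p) ∧ P x
  Finset.univ.filter fun x => π x = im (elt hF p) ∧ P x

local notation "Fib" => fib hF π P

omit hπ hker hdd hd1 hdc hPd hP1 hPc hPsq hPinv hNW hT hperf in
theorem mem_fib {p : Par} {x : C} : x ∈ Fib p ↔ π x = im (elt hF p) ∧ P x := by
  simp [fib]

/-- The number of selected lifts. -/
noncomputable def mult (r : ℕ) : ℕ := (fib hF π P (rep r)).card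

theorem mu_cls {p : Par} (hp : p ≠ (0, 0, 0, 0, 0, 0)) : (Fib p).card = mult hF π P (cls p) := by
  obtain ⟨n, hn⟩ := conj_rep hF p hp
  obtain ⟨c, hc⟩ := hπ (im n)
  refine Finset.card_nbij' (fun x => c * x * c⁻¹) (fun x => c⁻¹ * x * c) ?_ ?_ ?_ ?_
  · intro x hx
    simp only [Finset.mem_coe, mem_fib hF π P] at hx ⊢
    refine ⟨?_, (hPc c x).2 hx.2⟩
    rw [map_mul, map_mul, map_inv, hx.1, hc, ← hn]
    rfl
  · intro x hx
    simp only [Finset.mem_coe, mem_fib hF π P] at hx ⊢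
    refine ⟨?_, (hPc c _).1 (by rw [show c * (c⁻¹ * x * c) * c⁻¹ = x by group]; exact hx.2)⟩
    rw [map_mul, map_mul, map_inv, hx.1, hc, ← hn]
    simp [im, mul_assoc]
  · intro x _; simp [mul_assoc]
  · intro x _; simp [mul_assoc]

theorem fib_subset {p : Par} {σ : C} (hσ : π σ = im (elt hF p)) [DecidableEq C] :
    Fib p ⊆ {σ, σ * d} := fun x hx => by
  have h := (mem_fib hF π P).1 hx
  rcases lift_cases π d hker (hσ.trans h.1.symm) with rfl | rfl <;> simp

theorem mu_le_two (p : Par) : (Fib p).card ≤ 2 := by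
  classical
  obtain ⟨σ, hσ⟩ := hπ (im (elt hF p))
  exact (Finset.card_le_card (fib_subset hF π hπ d hker hdd hd1 hdc P hPd hP1 hPc hPsq hPinv hNW hT hperf hσ)).trans
    Finset.card_le_two

theorem both {p : Par} (h : (Fib p).card = 2) {x : C} (hx : π x = im (elt hF p)) : P x := by
  classical
  obtain ⟨σ, hσ⟩ := hπ (im (elt hF p))
  have heq := Finset.eq_of_subset_of_card_le
    (fib_subset hF π hπ d hker hdd hd1 hdc P hPd hP1 hPc hPsq hPinv hNW hT hperf hx)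
    (Finset.card_le_two.trans h.ge)
  exact ((mem_fib hF π P).1 (heq ▸ Finset.mem_insert_self x {x * d} : x ∈ Fib p)).2

theorem one_of {p : Par} (h : 1 ≤ (Fib p).card) {x : C} (hx : π x = im (elt hF p)) (hn : ¬ P x) :
    P (x * d) := by
  obtain ⟨y, hy⟩ := Finset.card_pos.1 h
  have hy' := (mem_fib hF π P).1 hy
  rcases lift_cases π d hker (hx.trans hy'.1.symm) with rfl | rfl
  · exact absurd hy'.2 hn
  · exact hy'.2

theorem not_both {p : Par} (h : (Fib p).card ≤ 1) {x : C} (hx : π x = im (elt hF p)) (hPx : P x) :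
    ¬ P (x * d) := fun hxd => by
  classical
  have h1 : x ∈ Fib p := (mem_fib hF π P).2 ⟨hx, hPx⟩
  have h2 : x * d ∈ Fib p := (mem_fib hF π P).2
    ⟨by rw [map_mul, (hker d).2 (Or.inr rfl), mul_one, hx], hxd⟩
  exact hd1 (left_eq_mul.1 (Finset.card_le_one.1 h _ h1 _ h2))

theorem mult_le_one {r : ℕ} (hr : r < 2) : mult hF π P r ≤ 1 := by
  classical
  obtain ⟨y, p, hp, rfl, hy⟩ := rep_square hF r hr
  obtain ⟨z, hz⟩ := hπ (im y)
  rw [← mu_cls hF π hπ d hker hdd hd1 hdc P hPd hP1 hPc hPsq hPinv hNW hT hperf hp]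
  have hσ : π (z * z) = im (elt hF p) := by
    rw [map_mul, hz, im, ← QuotientGroup.mk_mul, hy]
  have hle := mu_le_two hF π hπ d hker hdd hd1 hdc P hPd hP1 hPc hPsq hPinv hNW hT hperf p
  by_contra hgt
  exact hPsq z (both hF π hπ d hker hdd hd1 hdc P hPd hP1 hPc hPsq hPinv hNW hT hperf (by omega) hσ)

theorem exists_par {x : C} (hx : x ∈ Ab π) :
    ∃ p : Par, π x = im (elt hF p) ∧
      (p = (0, 0, 0, 0, 0, 0) → x = 1 ∨ x = d) := by
  obtain ⟨g, hg, he⟩ := mem_Eb.1 hx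
  obtain ⟨p, hp⟩ := exists_elt hF hg
  refine ⟨p, by rw [hp]; exact he.symm, fun h => (hker x).1 ?_⟩
  rw [← he, ← hp, h, elt_zero hF]
  rfl

theorem exists_cls {x : C} (hx : x ∈ Ab π) (h1 : x ≠ 1) (h2 : x ≠ d) :
    ∃ p : Par, p ≠ (0, 0, 0, 0, 0, 0) ∧ π x = im (elt hF p) ∧
      (Fib p).card = mult hF π P (cls p) ∧ cls p < 3 := by
  obtain ⟨p, hp, h0⟩ := exists_par hF π hπ d hker hdd hd1 hdc P hPd hP1 hPc hPsq hPinv hNW hT hperf hx
  have hne : p ≠ (0, 0, 0, 0, 0, 0) := fun h => (h0 h).elim h1 h2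
  exact ⟨p, hne, hp, mu_cls hF π hπ d hker hdd hd1 hdc P hPd hP1 hPc hPsq hPinv hNW hT hperf hne, cls_lt p⟩

/-- The count in terms of the three multiplicities. -/
theorem card_formula : Set.ncard {x : C | x ∈ Ab π ∧ P x} =
    1 + (21 * mult hF π P 0 + 210 * mult hF π P 1 + 280 * mult hF π P 2) := by
  classical
  have hset : {x : C | x ∈ Ab π ∧ P x} = ↑(Finset.univ.biUnion fun p : Par => Fib p) := by
    ext x
    simp only [Set.mem_setOf_eq, Finset.coe_biUnion, Finset.coe_univ, Set.mem_univ, Set.iUnion_true,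
      Set.mem_iUnion, Finset.mem_coe]
    constructor
    · rintro ⟨hx, hPx⟩
      obtain ⟨p, hp, -⟩ := exists_par hF π hπ d hker hdd hd1 hdc P hPd hP1 hPc hPsq hPinv hNW hT hperf hx
      exact ⟨p, (mem_fib hF π P).2 ⟨hp, hPx⟩⟩
    · rintro ⟨p, hp⟩
      have h := (mem_fib hF π P).1 hp
      exact ⟨mem_Eb.2 ⟨_, elt_mem hF p, h.1.symm⟩, h.2⟩
  rw [hset, Set.ncard_coe_finset, Finset.card_biUnion]
  swap
  · intro p _ q _ hpq
    rw [Function.onFun, Finset.disjoint_left]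
    intro x hx hx'
    exact hpq (elt_injective hF (im_injective_E hF (elt_mem hF p) (elt_mem hF q)
      (((mem_fib hF π P).1 hx).1.symm.trans ((mem_fib hF π P).1 hx').1)))
  rw [← Finset.add_sum_erase _ _ (Finset.mem_univ ((0, 0, 0, 0, 0, 0) : Par))]
  refine congrArg₂ (· + ·) ?_ ?_
  · rw [Finset.card_eq_one]
    refine ⟨d, Finset.ext fun x => ?_⟩
    simp only [mem_fib hF π P, Finset.mem_singleton, elt_zero hF]
    constructor
    · rintro ⟨hx, hPx⟩
      rcases (hker x).1 hx with rfl | rfl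
      · exact absurd hPx hP1
      · rfl
    · intro e
      rw [e]
      exact ⟨(hker d).2 (Or.inr rfl), hPd⟩
  · have hset' : (Finset.univ : Finset Par).erase (0, 0, 0, 0, 0, 0) =
        Finset.univ.filter fun p => p ≠ (0, 0, 0, 0, 0, 0) := by ext p; simp
    rw [hset', Finset.sum_congr rfl (fun p hp =>
      mu_cls hF π hπ d hker hdd hd1 hdc P hPd hP1 hPc hPsq hPinv hNW hT hperf (Finset.mem_filter.1 hp).2),
      ← Finset.sum_fiberwise_of_maps_to (g := cls) (t := Finset.range 3)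
        (fun p _ => Finset.mem_range.2 (cls_lt p))]
    have hk : ∀ r : Fin 3, ∑ p ∈ (Finset.univ.filter fun p : Par => p ≠ (0, 0, 0, 0, 0, 0)).filter
        (fun p => cls p = r.val), mult hF π P (cls p) =
          (![21, 210, 280] : Fin 3 → ℕ) r * mult hF π P r.val := fun r => by
      rw [Finset.sum_congr rfl (fun p hp => by rw [(Finset.mem_filter.1 hp).2]), Finset.sum_const,
        Finset.filter_filter, smul_eq_mul, cls_card r]
    rw [Finset.sum_range_succ, Finset.sum_range_succ, Finset.sum_range_succ, Finset.sum_range_zero,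
      zero_add]
    exact congrArg₂ (· + ·) (congrArg₂ (· + ·) (hk 0) (hk 1)) (hk 2)

/-- The prime divisors of the count. -/
theorem prime_dvd_count {p : ℕ} (hp : p.Prime) (h : p ∣ Set.ncard {x : C | x ∈ Ab π ∧ P x}) :
    ∃ f < 10, p ∣ 2 ^ 10 - 2 ^ f := by
  classical
  let R : Subgroup (MulAut (Ab π)) :=
    { carrier := {φ | ∀ a, P (φ a : C) ↔ P (a : C)}
      one_mem' := fun a => Iff.rfl
      mul_mem' := fun {φ ψ} h1 h2 a => (h1 (ψ a)).trans (h2 a)
      inv_mem' := fun {φ} h1 a => by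
        have := h1 (φ⁻¹ a)
        rw [MulAut.apply_inv_self] at this
        exact this.symm }
  set dA : Ab π := ⟨d, d_mem hF π hπ d hker hdd hd1 hdc P hPd hP1 hPc hPsq hPinv hNW hT hperf⟩
  have horb : (MulAction.orbit R dA) = {a : Ab π | P (a : C)} := by
    ext a
    constructor
    · rintro ⟨⟨φ, hφ⟩, rfl⟩
      exact (hφ dA).2 hPd
    · intro ha
      obtain ⟨φ, h1, h2⟩ := hT a.1 a.2 ha
      exact ⟨⟨φ, h2⟩, h1 dA rfl⟩
  have hn : Set.ncard {x : C | x ∈ Ab π ∧ P x} = (MulAction.stabilizer R dA).index := by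
    rw [MulAction.index_stabilizer, horb,
      ← Set.ncard_image_of_injective _ Subtype.val_injective]
    congr 1
    ext x
    simp [and_comm]
  haveI : Finite R := Subtype.finite
  have hR : p ∣ Nat.card R := (hn ▸ h).trans (Subgroup.index_dvd_card _)
  haveI := Fact.mk hp
  obtain ⟨φ, hφ⟩ := exists_prime_orderOf_dvd_card' p hR
  have hφ1 : (φ : MulAut (Ab π)) ≠ 1 := fun e => by
    rw [show φ = 1 from Subtype.ext e, orderOf_one] at hφ
    exact hp.one_lt.ne hφ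
  let Φ : MulAut (Ab π) := φ.1
  let K : Subgroup (Ab π) := MonoidHom.eqLocus Φ.toMonoidHom (MonoidHom.id _)
  have hcard := card_Ab hF π hπ d hker hdd hd1 hdc
  obtain ⟨f, hf, hKf⟩ := (Nat.dvd_prime_pow Nat.prime_two).1
    (hcard ▸ K.card_subgroup_dvd_card : Nat.card K ∣ 2 ^ 10)
  refine ⟨f, lt_of_le_of_ne hf fun e => hφ1 ?_, ?_⟩
  · have htop : K = ⊤ := Subgroup.eq_top_of_card_eq K (by rw [hKf, e, hcard])
    refine MulEquiv.ext fun a => ?_
    exact (htop ▸ Subgroup.mem_top a : a ∈ K)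
  have hpg : IsPGroup p (Subgroup.zpowers Φ) := IsPGroup.of_card (n := 1) (by
    rw [Nat.card_zpowers, pow_one, ← hφ]
    exact Subgroup.orderOf_coe φ)
  have hmod := hpg.card_modEq_card_fixedPoints (α := Ab π)
  have hfix : MulAction.fixedPoints (Subgroup.zpowers Φ) (Ab π) = (K : Set (Ab π)) := by
    ext a
    constructor
    · intro ha
      exact ha ⟨Φ, Subgroup.mem_zpowers Φ⟩
    · rintro ha ⟨ψ, hψ⟩
      have : Subgroup.zpowers Φ ≤ MulAction.stabilizer (MulAut (Ab π)) a :=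
        Subgroup.zpowers_le.2 ha
      exact this hψ
  rw [hfix, show Nat.card (K : Set (Ab π)) = Nat.card K from rfl, hKf, hcard] at hmod
  exact (Nat.modEq_iff_dvd' (Nat.pow_le_pow_right (by norm_num) hf)).1 hmod.symm

/-- Multiplicities zero, zero, two are impossible. -/
theorem not_002 (h0 : mult hF π P 0 = 0) (h1 : mult hF π P 1 = 0) (h2 : mult hF π P 2 = 2) :
    False := by
  have full : ∀ x ∈ Ab π, P x → x ≠ d → P (x * d) := by
    intro x hx hPx hne
    obtain ⟨p, hp, hpx, hmu, hc⟩ := exists_cls hF π hπ d hker hdd hd1 hdc P hPd hP1 hPc hPsq hPinv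
      hNW hT hperf hx (fun e => hP1 (e ▸ hPx)) hne
    have hpos : 1 ≤ (Fib p).card :=
      Finset.card_pos.2 ⟨x, (mem_fib hF π P).2 ⟨hpx, hPx⟩⟩
    refine both hF π hπ d hker hdd hd1 hdc P hPd hP1 hPc hPsq hPinv hNW hT hperf ?_
      (show π (x * d) = im (elt hF p) by rw [map_mul, (hker d).2 (Or.inr rfl), mul_one, hpx])
    rw [hmu] at hpos ⊢
    interval_cases h : cls p <;> omega
  have closed : ∀ x ∈ Ab π, ∀ y ∈ Ab π, P x → P y → x ≠ y → P (y * x) := by
    intro x hx y hy hPx hPy hne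
    obtain ⟨φ, hφd, hφP⟩ := hT x hx hPx
    obtain ⟨z, hz⟩ := φ.surjective ⟨y, hy⟩
    have hzd : z.1 ≠ d := fun e => hne (congrArg Subtype.val ((hφd z e).symm.trans hz))
    have hPz : P z.1 := (hφP z).1 (by rw [hz]; exact hPy)
    set dA : Ab π := ⟨d, d_mem hF π hπ d hker hdd hd1 hdc P hPd hP1 hPc hPsq hPinv hNW hT hperf⟩
    have := (hφP (z * dA)).2 (full z.1 z.2 hPz hzd)
    rwa [map_mul, hz, hφd dA rfl] at this
  let K : Subgroup C :=
    { carrier := {x | x ∈ Ab π ∧ (x = 1 ∨ P x)}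
      one_mem' := ⟨one_mem _, Or.inl rfl⟩
      mul_mem' := by
        rintro a b ⟨ha, ha'⟩ ⟨hb, hb'⟩
        refine ⟨mul_mem ha hb, ?_⟩
        rcases ha' with rfl | ha'
        · rwa [one_mul]
        rcases hb' with rfl | hb'
        · rw [mul_one]; exact Or.inr ha'
        rcases eq_or_ne b a with rfl | hne
        · exact Or.inl (hPinv b hb')
        · exact Or.inr (closed b hb a ha hb' ha' hne)
      inv_mem' := by
        rintro a ⟨ha, ha'⟩
        rw [inv_eq_of_mul_eq_one_right (sq_of_Ab hF π hπ d hker hdd hd1 hdc ha)]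
        exact ⟨ha, ha'⟩ }
  have hK : Nat.card K = 562 := by
    have hset : (K : Set C) = insert 1 {x : C | x ∈ Ab π ∧ P x} := by
      ext x
      simp only [Set.mem_insert_iff, Set.mem_setOf_eq]
      show (x ∈ Ab π ∧ (x = 1 ∨ P x)) ↔ _
      constructor
      · rintro ⟨hx, e | e⟩
        exacts [Or.inl e, Or.inr ⟨hx, e⟩]
      · rintro (e | ⟨hx, e⟩)
        exacts [⟨e ▸ one_mem _, Or.inl e⟩, ⟨hx, Or.inr e⟩]
    rw [← SetLike.coe_sort_coe, Nat.card_coe_set_eq, hset,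
      Set.ncard_insert_of_notMem (fun h => hP1 h.2),
      card_formula hF π hπ d hker hdd hd1 hdc P hPd hP1 hPc hPsq hPinv hNW hT hperf, h0, h1, h2]
  have := Subgroup.card_dvd_of_le (show K ≤ Ab π from fun x hx => hx.1)
  rw [hK, card_Ab hF π hπ d hker hdd hd1 hdc] at this
  norm_num at this

/-- Multiplicities one, one, two are impossible. -/
theorem not_112 (h0 : mult hF π P 0 = 1) (h1 : mult hF π P 1 = 1) (h2 : mult hF π P 2 = 2) :
    False := by
  let Rset : Set C := {r | r ∈ Ab π ∧ r ≠ 1 ∧ ¬ P r}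
  have step : ∀ x ∈ Ab π, P x → ∀ r ∈ Rset, P (r * x) := by
    rintro x hx hPx r ⟨hr, hr1, hPr⟩
    obtain ⟨φ, hφd, hφP⟩ := hT x hx hPx
    obtain ⟨z, hz⟩ := φ.surjective ⟨r, hr⟩
    have hPz : ¬ P z.1 := fun e => hPr (by
      have := (hφP z).2 e
      rwa [hz] at this)
    have hz1 : z.1 ≠ 1 := fun e => hr1 (by
      have := congrArg Subtype.val hz
      rwa [show z = 1 from Subtype.ext e, map_one, eq_comm] at this)
    have hzd : z.1 ≠ d := fun e => hPz (e ▸ hPd)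
    obtain ⟨p, hp, hpx, hmu, hc⟩ := exists_cls hF π hπ d hker hdd hd1 hdc P hPd hP1 hPc hPsq hPinv
      hNW hT hperf z.2 hz1 hzd
    have hzP : P (z.1 * d) := one_of hF π hπ d hker hdd hd1 hdc P hPd hP1 hPc hPsq hPinv hNW hT hperf
      (by rw [hmu]; interval_cases h : cls p <;> omega) hpx hPz
    set dA : Ab π := ⟨d, d_mem hF π hπ d hker hdd hd1 hdc P hPd hP1 hPc hPsq hPinv hNW hT hperf⟩
    have := (hφP (z * dA)).2 hzP
    rwa [map_mul, hz, hφd dA rfl] at this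
  set K := Subgroup.closure Rset with hKdef
  have hKA : K ≤ Ab π := (Subgroup.closure_le _).2 fun r hr => hr.1
  have hK : ∀ k ∈ K, ∀ x ∈ Ab π, P x → P (k * x) := by
    intro k hk
    induction hk using Subgroup.closure_induction with
    | mem r hr => exact fun x hx hPx => step x hx hPx r hr
    | one => exact fun x _ hPx => by rwa [one_mul]
    | mul a b ha hb iha ihb =>
      exact fun x hx hPx => by rw [mul_assoc]; exact iha _ (mul_mem (hKA hb) hx) (ihb x hx hPx)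
    | inv a ha iha =>
      rw [inv_eq_of_mul_eq_one_right (sq_of_Ab hF π hπ d hker hdd hd1 hdc (hKA ha))]
      exact iha
  let S : Subgroup (SU 6 F 2) := (K.map π).comap (QuotientGroup.mk' _)
  have hsmall : ∀ q : Par, (q = (0, 0, 0, 0, 0, 0) ∨ cls q < 2) → elt hF q ∈ S := by
    intro q hq
    by_cases hq0 : q = (0, 0, 0, 0, 0, 0)
    · rw [hq0, elt_zero hF]; exact one_mem _
    have hlt := hq.resolve_left hq0
    have hmu : (Fib q).card = 1 := by
      rw [mu_cls hF π hπ d hker hdd hd1 hdc P hPd hP1 hPc hPsq hPinv hNW hT hperf hq0]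
      interval_cases h : cls q <;> omega
    obtain ⟨σ, hσ⟩ := hπ (im (elt hF q))
    obtain ⟨r, hr, hPr⟩ : ∃ r, π r = im (elt hF q) ∧ ¬ P r := by
      by_cases hPσ : P σ
      · exact ⟨σ * d, by rw [map_mul, (hker d).2 (Or.inr rfl), mul_one, hσ],
          not_both hF π hπ d hker hdd hd1 hdc P hPd hP1 hPc hPsq hPinv hNW hT hperf hmu.le hσ hPσ⟩
      · exact ⟨σ, hσ, hPσ⟩
    have hrA : r ∈ Ab π := mem_Eb.2 ⟨_, elt_mem hF q, hr.symm⟩
    have hr1 : r ≠ 1 := fun e => elt_ne_one hF hq0 (im_injective_E hF (elt_mem hF q) (one_mem _)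
      (hr.symm.trans (by rw [e, map_one]; rfl)))
    exact ⟨r, Subgroup.subset_closure ⟨hrA, hr1, hPr⟩, hr⟩
  have hall : ∀ p : Par, elt hF p ∈ S := by
    intro p
    have hz : ∀ {A : Type} [Zero A] (a : A), a = 0 → True := fun _ _ => trivial
    rw [single_split p]
    simp only [padd, ← elt_add hF]
    obtain ⟨⟨s1, -, -⟩, ⟨s4, -, -⟩⟩ := single_cls p.1 p.2.2.2.1
    obtain ⟨⟨-, s2, -⟩, ⟨-, s5, -⟩⟩ := single_cls p.2.1 p.2.2.2.2.1
    obtain ⟨⟨-, -, s3⟩, ⟨-, -, s6⟩⟩ := single_cls p.2.2.1 p.2.2.2.2.2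
    refine mul_mem (hsmall _ (s1.imp_left fun e => by rw [e])) (mul_mem
      (hsmall _ (s2.imp_left fun e => by rw [e])) (mul_mem (hsmall _ (s3.imp_left fun e => by rw [e]))
      (mul_mem (hsmall _ (s4.imp_left fun e => by rw [e])) (mul_mem
      (hsmall _ (s5.imp_left fun e => by rw [e])) (hsmall _ (s6.imp_left fun e => by rw [e]))))))
  obtain ⟨k, hk, hkq⟩ := hall (rep 2)
  have hmu : (Fib (rep 2)).card = 2 := h2
  have hPk : P k := both hF π hπ d hker hdd hd1 hdc P hPd hP1 hPc hPsq hPinv hNW hT hperf hmu hkq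
  exact hP1 (hPinv k hPk ▸ hK k hk k (hKA hk) hPk)

/-- Multiplicities one, one, one are impossible. -/
theorem not_111 (h0 : mult hF π P 0 = 1) (h1 : mult hF π P 1 = 1) (h2 : mult hF π P 2 = 1) :
    False := by
  classical
  have hone : ∀ x ∈ Ab π, x ≠ 1 → x ≠ d → ∃ p : Par, π x = im (elt hF p) ∧ (Fib p).card = 1 := by
    intro x hx hx1 hxd
    obtain ⟨p, -, hpx, hmu, hc⟩ := exists_cls hF π hπ d hker hdd hd1 hdc P hPd hP1 hPc hPsq hPinv
      hNW hT hperf hx hx1 hxd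
    refine ⟨p, hpx, ?_⟩
    rw [hmu]
    interval_cases h : cls p <;> omega
  have hflip : ∀ x ∈ Ab π, ¬ P x → P (x * d) := by
    intro x hx hn
    by_cases hx1 : x = 1
    · rw [hx1, one_mul]; exact hPd
    obtain ⟨p, hpx, hmu⟩ := hone x hx hx1 (fun e => hn (e ▸ hPd))
    exact one_of hF π hπ d hker hdd hd1 hdc P hPd hP1 hPc hPsq hPinv hNW hT hperf hmu.ge hpx hn
  have hflip' : ∀ x ∈ Ab π, P x → ¬ P (x * d) := by
    intro x hx hPx
    by_cases hxd : x = d
    · rw [hxd, hdd]; exact hP1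
    obtain ⟨p, hpx, hmu⟩ := hone x hx (fun e => hP1 (e ▸ hPx)) hxd
    exact not_both hF π hπ d hker hdd hd1 hdc P hPd hP1 hPc hPsq hPinv hNW hT hperf hmu.le hpx hPx
  have hH : ∀ a ∈ Ab π, ∀ b ∈ Ab π, ¬ P a → ¬ P b → ¬ P (a * b) := by
    intro a ha b hb hna hnb
    have hdA := d_mem hF π hπ d hker hdd hd1 hdc P hPd hP1 hPc hPsq hPinv hNW hT hperf
    obtain ⟨φ, hφd, hφP⟩ := hT (b * d) (mul_mem hb hdA) (hflip b hb hnb)
    obtain ⟨z, hz⟩ := φ.surjective ⟨a * d, mul_mem ha hdA⟩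
    have hPz : P z.1 := (hφP z).1 (by rw [hz]; exact hflip a ha hna)
    have := mt (hφP (z * ⟨d, hdA⟩)).1 (hflip' z.1 z.2 hPz)
    rw [map_mul, hz, hφd ⟨d, hdA⟩ rfl] at this
    rwa [show (((⟨a * d, mul_mem ha hdA⟩ : Ab π) * ⟨b * d, mul_mem hb hdA⟩ : Ab π) : C) = a * b by
      show a * d * (b * d) = a * b
      rw [hdc b, mul_assoc, ← mul_assoc d d b, hdd, one_mul]] at this
  -- the complement over a conjugate of a subgroup of the radical
  have mk : ∀ (V : Subgroup (SU 6 F 2)), (∃ k, ∀ v ∈ V, k * v * k⁻¹ ∈ E) →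
      ∃ N : Subgroup C, (∀ y, y ∈ N ↔ (∃ v ∈ V, π y = im v) ∧ ¬ P y) ∧
        (∀ v ∈ V, ∃ y ∈ N, π y = im v) ∧ (∀ y ∈ N, π y = 1 → y = 1) := by
    rintro V ⟨k, hk⟩
    obtain ⟨c, hc⟩ := hπ (im k)
    have hmemA : ∀ {y : C} {v}, v ∈ V → π y = im v → c * y * c⁻¹ ∈ Ab π := fun {y v} hv hy => by
      refine mem_Eb.2 ⟨_, hk v hv, ?_⟩
      rw [map_mul, map_mul, map_inv, hc, hy]; rfl
    let N : Subgroup C :=
      { carrier := {y | (∃ v ∈ V, π y = im v) ∧ ¬ P y}
        one_mem' := ⟨⟨1, one_mem _, by rw [map_one]; rfl⟩, hP1⟩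
        mul_mem' := by
          rintro a b ⟨⟨v, hv, ha⟩, hna⟩ ⟨⟨w, hw, hb⟩, hnb⟩
          refine ⟨⟨v * w, mul_mem hv hw, by rw [map_mul, ha, hb]; rfl⟩, fun h => ?_⟩
          refine hH _ (hmemA hv ha) _ (hmemA hw hb) (by rwa [hPc]) (by rwa [hPc]) ?_
          rw [show c * a * c⁻¹ * (c * b * c⁻¹) = c * (a * b) * c⁻¹ by group, hPc]
          exact h
        inv_mem' := by
          rintro a ⟨⟨v, hv, ha⟩, hna⟩
          have h := sq_of_Ab hF π hπ d hker hdd hd1 hdc (hmemA hv ha)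
          have haa : a * a = 1 := by
            rw [show c * a * c⁻¹ * (c * a * c⁻¹) = c * (a * a) * c⁻¹ by group] at h
            exact conj_eq_one_iff.1 h
          rw [inv_eq_of_mul_eq_one_right haa]
          exact ⟨⟨v, hv, ha⟩, hna⟩ }
    refine ⟨N, fun y => Iff.rfl, fun v hv => ?_, fun y hy h => ?_⟩
    · obtain ⟨y, hy⟩ := hπ (im v)
      by_cases hPy : P y
      · have hA := hmemA hv hy
        refine ⟨y * d, ⟨⟨v, hv, by rw [map_mul, (hker d).2 (Or.inr rfl), mul_one, hy]⟩, ?_⟩,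
          by rw [map_mul, (hker d).2 (Or.inr rfl), mul_one, hy]⟩
        have := hflip' _ hA (by rwa [hPc])
        rw [show c * y * c⁻¹ * d = c * (y * d) * c⁻¹ by
          rw [mul_assoc (c * y), hdc c⁻¹, ← mul_assoc, ← mul_assoc, mul_assoc c y], hPc] at this
        exact this
      · exact ⟨y, ⟨⟨v, hv, hy⟩, hPy⟩, hy⟩
    · rcases (hker y).1 h with e | e
      · exact e
      · exact absurd hPd (e ▸ hy.2)
  obtain ⟨NE, hNE, hNEs, hNEi⟩ := mk E ⟨1, fun v hv => by simpa using hv⟩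
  obtain ⟨N1, hN1, hN1s, hN1i⟩ := mk (A1 hF) (by
    obtain ⟨g, hg⟩ := exists_conj_frame hF ![av 0, av 1, fv hF 2] ![fv hF 0, fv hF 1, av 2]
      (fun i j => by fin_cases i <;> fin_cases j <;> simp [herm_av_av hF, herm_av_fv hF, herm_fv_av hF, herm_fv_fv hF])
      (fun i j => by fin_cases i <;> fin_cases j <;> simp [herm_av_av hF, herm_av_fv hF, herm_fv_av hF, herm_fv_fv hF])
    refine ⟨g, fun v hv => hg v fun i => ?_⟩
    obtain ⟨-, e0, e1, e2⟩ := (mem_A1 hF).1 hv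
    fin_cases i <;> assumption)
  obtain ⟨N2, hN2, hN2s, hN2i⟩ := mk (A2 hF) (by
    obtain ⟨g, hg⟩ := exists_conj_frame hF ![av 0, av 2, fv hF 1] ![fv hF 0, fv hF 2, av 1]
      (fun i j => by fin_cases i <;> fin_cases j <;> simp [herm_av_av hF, herm_av_fv hF, herm_fv_av hF, herm_fv_fv hF])
      (fun i j => by fin_cases i <;> fin_cases j <;> simp [herm_av_av hF, herm_av_fv hF, herm_fv_av hF, herm_fv_fv hF])
    refine ⟨g, fun v hv => hg v fun i => ?_⟩
    obtain ⟨-, e0, e1, e2, -⟩ := (mem_A2 hF).1 hv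
    fin_cases i <;> assumption)
  have hnorm : ∀ (N N' : Subgroup C) (V V' : Subgroup (SU 6 F 2)),
      (∀ y, y ∈ N ↔ (∃ v ∈ V, π y = im v) ∧ ¬ P y) → (∀ y ∈ N', ∃ v ∈ V', π y = im v) →
      (∀ w ∈ V', ∀ v ∈ V, w * v * w⁻¹ ∈ V) → N' ≤ Subgroup.normalizer (N : Set C) := by
    intro N N' V V' hN hN' hV y' hy'
    have one : ∀ z ∈ N', ∀ y ∈ N, z * y * z⁻¹ ∈ N := by
      intro z hz y hy
      obtain ⟨w, hw, hzw⟩ := hN' z hz
      obtain ⟨⟨v, hv, hyv⟩, hn⟩ := (hN y).1 hy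
      exact (hN _).2 ⟨⟨_, hV w hw v hv, by rw [map_mul, map_mul, map_inv, hzw, hyv]; rfl⟩,
        by rwa [hPc]⟩
    refine Subgroup.mem_normalizer_iff.2 fun y => ⟨one y' hy' y, fun h => ?_⟩
    have := one y'⁻¹ (inv_mem hy') _ h
    rwa [show y'⁻¹ * (y' * y * y'⁻¹) * y'⁻¹⁻¹ = y by group] at this
  have hA1L : ∀ w ∈ A1 hF, w ∈ Levi hF := fun w hw => ((mem_A1 hF).1 hw).1
  have hA2L : ∀ w ∈ A2 hF, w ∈ Levi hF := fun w hw => ((mem_A2 hF).1 hw).1
  have n1 : N1 ≤ Subgroup.normalizer (NE : Set C) := hnorm NE N1 E (A1 hF) hNE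
    (fun y hy => ((hN1 y).1 hy).1) fun w hw v hv => conj_E_of_Levi hF (hA1L w hw) hv
  have n2 : N2 ≤ Subgroup.normalizer (NE : Set C) := hnorm NE N2 E (A2 hF) hNE
    (fun y hy => ((hN2 y).1 hy).1) fun w hw v hv => conj_E_of_Levi hF (hA2L w hw) hv
  have n3 : N2 ≤ Subgroup.normalizer (N1 : Set C) := hnorm N1 N2 (A1 hF) (A2 hF) hN1
    (fun y hy => ((hN2 y).1 hy).1) fun w hw v hv => A1_normalizes hF hw hv
  have n4 : N2 ≤ Subgroup.normalizer ((N1 ⊔ NE : Subgroup C) : Set C) :=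
    (le_inf n3 n2).trans (Subgroup.normalizer_inf_normalizer_le_normalizer_sup N1 NE)
  set S0 := N2 ⊔ (N1 ⊔ NE)
  have hdecomp : ∀ x ∈ S0, ∃ a ∈ N2, ∃ b ∈ N1, ∃ e ∈ NE, x = a * b * e := by
    intro x hx
    have h1 : (S0 : Set C) = (N2 : Set C) * ((N1 ⊔ NE : Subgroup C) : Set C) :=
      Subgroup.coe_mul_of_left_le_normalizer_right N2 _ n4
    rw [← SetLike.mem_coe, h1] at hx
    obtain ⟨a, ha, y, hy, rfl⟩ := hx
    rw [Subgroup.coe_mul_of_left_le_normalizer_right N1 NE n1] at hy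
    obtain ⟨b, hb, e, he, rfl⟩ := hy
    exact ⟨a, ha, b, hb, e, he, (mul_assoc a b e).symm⟩
  have hinj : ∀ x ∈ S0, π x = 1 → x = 1 := by
    intro x hx hπx
    obtain ⟨a, ha, b, hb, e, he, rfl⟩ := hdecomp x hx
    obtain ⟨va, hva, hπa⟩ := ((hN2 a).1 ha).1
    obtain ⟨vb, hvb, hπb⟩ := ((hN1 b).1 hb).1
    obtain ⟨ve, hve, hπe⟩ := ((hNE e).1 he).1
    rw [map_mul, map_mul, hπa, hπb, hπe] at hπx
    have hc : va * vb * ve ∈ Subgroup.center (SU 6 F 2) :=
      (QuotientGroup.eq_one_iff _).1 hπx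
    obtain ⟨r, hr⟩ := (mem_center_iff hF (by norm_num)).1 hc
    have h00 := hr (av 0)
    rw [mul_smul, mul_smul, mem_E.1 hve 0, ((mem_A1 hF).1 hvb).2.1, ((mem_A2 hF).1 hva).2.1] at h00
    have hr1 : r = 1 := by
      have := congrFun h00 0
      simpa [av, eI] using this.symm
    have h1 : va * vb * ve = 1 := eq_of_smul_eq_SU fun v => by rw [hr, hr1, one_smul, one_smul]
    obtain ⟨e1, e2, e3⟩ := product_eq_one hF hva hvb hve h1
    rw [hN2i a ha (by rw [hπa, e1]; rfl), hN1i b hb (by rw [hπb, e2]; rfl),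
      hNEi e he (by rw [hπe, e3]; rfl), one_mul, one_mul]
  have hbound : 2 ^ 15 ≤ Nat.card S0 := by
    choose f2 hf2 hπ2 using hN2s
    choose f1 hf1 hπ1 using hN1s
    choose fE hfE hπE using hNEs
    let f : A2 hF × A1 hF × (E : Subgroup (SU 6 F 2)) → S0 := fun t =>
      ⟨f2 t.1.1 t.1.2 * (f1 t.2.1.1 t.2.1.2 * fE t.2.2.1 t.2.2.2),
        Subgroup.mul_mem_sup (hf2 _ _) (Subgroup.mul_mem_sup (hf1 _ _) (hfE _ _))⟩
    have hf : Function.Injective f := by
      rintro ⟨⟨a, ha⟩, ⟨b, hb⟩, ⟨e, he⟩⟩ ⟨⟨a', ha'⟩, ⟨b', hb'⟩, ⟨e', he'⟩⟩ h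
      have h' := congrArg (fun t : S0 => π t.1) h
      simp only [f, map_mul, hπ2, hπ1, hπE] at h'
      have hc : (a * (b * e))⁻¹ * (a' * (b' * e')) ∈ Subgroup.center (SU 6 F 2) := QuotientGroup.eq.1 h'
      obtain ⟨r, hr⟩ := (mem_center_iff hF (by norm_num)).1 hc
      have h00 := hr (av 0)
      rw [mul_smul, mul_smul, mul_smul, mem_E.1 he' 0, ((mem_A1 hF).1 hb').2.1,
        ((mem_A2 hF).1 ha').2.1] at h00
      have h01 : (a * (b * e))⁻¹ • (av 0 : Fin 6 → F) = av 0 := by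
        rw [inv_smul_eq_iff, mul_smul, mul_smul, mem_E.1 he 0, ((mem_A1 hF).1 hb).2.1,
          ((mem_A2 hF).1 ha).2.1]
      rw [h01] at h00
      have hr1 : r = 1 := by
        have := congrFun h00 0
        simpa [av, eI] using this.symm
      have h1 : a * (b * e) = a' * (b' * e') :=
        inv_mul_eq_one.1 (eq_of_smul_eq_SU fun v => by rw [hr, hr1, one_smul, one_smul])
      have hae : a'⁻¹ * a ∈ A2 hF := mul_mem (inv_mem ha') ha
      have hh : a'⁻¹ * a * b * (e * e'⁻¹) * b'⁻¹ = 1 := by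
        rw [show a'⁻¹ * a * b * (e * e'⁻¹) * b'⁻¹ = a'⁻¹ * (a * (b * e)) * (e'⁻¹ * b'⁻¹) by group, h1]
        group
      have hh' : a'⁻¹ * a * (b * b'⁻¹) * (b' * (e * e'⁻¹) * b'⁻¹) = 1 := by
        rw [← hh]; group
      obtain ⟨e1, e2, e3⟩ := product_eq_one hF hae (mul_mem hb (inv_mem hb'))
        (conj_E_of_Levi hF (hA1L b' hb') (mul_mem he (inv_mem he'))) hh'
      have i1 := inv_mul_eq_one.1 e1
      have i2 := mul_inv_eq_one.1 e2
      have i3 := mul_inv_eq_one.1 (conj_eq_one_iff.1 e3)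
      simp [i1, i2, i3]
    have := Nat.card_le_card_of_injective f hf
    rw [Nat.card_prod, Nat.card_prod, card_E hF] at this
    calc 2 ^ 15 = 2 ^ 2 * (2 ^ 4 * 2 ^ 9) := by norm_num
      _ ≤ Nat.card (A2 hF) * (Nat.card (A1 hF) * 2 ^ 9) := by
        gcongr
        · exact card_A2 hF
        · exact card_A1 hF
      _ ≤ _ := this
  have hpow : IsPGroup 2 S0 := by
    have two : ∀ (N : Subgroup C) (V : Subgroup (SU 6 F 2)), (∃ k, ∀ v ∈ V, k * v * k⁻¹ ∈ E) →
        (∀ y ∈ N, (∃ v ∈ V, π y = im v)) → (∀ y ∈ N, π y = 1 → y = 1) → IsPGroup 2 N := by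
      rintro N V ⟨k, hk⟩ hNV hi y
      refine ⟨1, Subtype.ext (hi _ (y ^ 2 ^ 1).2 ?_)⟩
      obtain ⟨v, hv, hy⟩ := hNV y.1 y.2
      have hsq : v * v = 1 := by
        have := E_sq hF (hk v hv)
        rw [show k * v * k⁻¹ * (k * v * k⁻¹) = k * (v * v) * k⁻¹ by group] at this
        exact conj_eq_one_iff.1 this
      rw [SubgroupClass.coe_pow, map_pow, hy, pow_one, pow_two, im, ← QuotientGroup.mk_mul, hsq]
      rfl
    have p1 : IsPGroup 2 (N1 ⊔ NE : Subgroup C) :=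
      IsPGroup.to_sup_of_normal_right' (two N1 (A1 hF) (by
        obtain ⟨g, hg⟩ := exists_conj_frame hF ![av 0, av 1, fv hF 2] ![fv hF 0, fv hF 1, av 2]
          (fun i j => by fin_cases i <;> fin_cases j <;> simp [herm_av_av hF, herm_av_fv hF, herm_fv_av hF, herm_fv_fv hF])
          (fun i j => by fin_cases i <;> fin_cases j <;> simp [herm_av_av hF, herm_av_fv hF, herm_fv_av hF, herm_fv_fv hF])
        refine ⟨g, fun v hv => hg v fun i => ?_⟩
        obtain ⟨-, e0, e1, e2⟩ := (mem_A1 hF).1 hv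
        fin_cases i <;> assumption) (fun y hy => ((hN1 y).1 hy).1) hN1i)
        (two NE E ⟨1, fun v hv => by simpa using hv⟩ (fun y hy => ((hNE y).1 hy).1) hNEi) n1
    exact IsPGroup.to_sup_of_normal_right' (two N2 (A2 hF) (by
        obtain ⟨g, hg⟩ := exists_conj_frame hF ![av 0, av 2, fv hF 1] ![fv hF 0, fv hF 2, av 1]
          (fun i j => by fin_cases i <;> fin_cases j <;> simp [herm_av_av hF, herm_av_fv hF, herm_fv_av hF, herm_fv_fv hF])
          (fun i j => by fin_cases i <;> fin_cases j <;> simp [herm_av_av hF, herm_av_fv hF, herm_fv_av hF, herm_fv_fv hF])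
        refine ⟨g, fun v hv => hg v fun i => ?_⟩
        obtain ⟨-, e0, e1, e2, -⟩ := (mem_A2 hF).1 hv
        fin_cases i <;> assumption) (fun y hy => ((hN2 y).1 hy).1) hN2i) p1 n4
  obtain ⟨n, hn⟩ := (IsPGroup.iff_card).1 hpow
  have hmapcard : Nat.card (S0.map π) = 2 ^ n := by
    rw [← hn]
    exact (Nat.card_congr (Equiv.ofBijective (fun x : S0 => (⟨π x.1, x.1, x.2, rfl⟩ : S0.map π))
      ⟨fun x y h => Subtype.ext (inv_mul_eq_one.1 (hinj _ (mul_mem (inv_mem x.2) y.2) (by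
          have h' : π x.1 = π y.1 := Subtype.ext_iff.1 h
          rw [map_mul, map_inv, h', inv_mul_cancel]))),
        fun z => by obtain ⟨x, hx, he⟩ := z.2; exact ⟨⟨x, hx⟩, Subtype.ext he⟩⟩)).symm
  have hidx : Odd (S0.map π).index := by
    have h := card_PSU hF (n := 6) (by norm_num)
    rw [← (S0.map π).card_mul_index, hmapcard] at h
    norm_num [Finset.prod_range_succ, Nat.even_iff] at h
    have hn15 : 15 ≤ n := by
      rw [hn] at hbound
      exact (Nat.pow_le_pow_iff_right (by norm_num)).1 hbound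
    obtain ⟨m, rfl⟩ := Nat.exists_eq_add_of_le hn15
    rw [pow_add] at h
    rcases Nat.even_or_odd (S0.map π).index with ⟨j, hj⟩ | ho
    · exfalso; rw [hj] at h
      have : 2 ∣ (2525985 : ℕ) := ⟨9 * 2 ^ m * j, by ring_nf at h ⊢; omega⟩
      omega
    · exact ho
  -- transfer
  let T := (S0.map π).comap π
  let Z := Subgroup.zpowers d
  have hZ : ∀ z : Z, (z : C) = 1 ∨ (z : C) = d := by
    rintro ⟨z, hz⟩
    obtain ⟨i, rfl⟩ := Subgroup.mem_zpowers_iff.1 hz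
    have hd2 : d ^ (2 : ℤ) = 1 := by rw [zpow_two, hdd]
    rcases Int.even_or_odd i with ⟨j, rfl⟩ | ⟨j, rfl⟩
    · left; show d ^ (j + j) = 1; rw [← two_mul, zpow_mul, hd2, one_zpow]
    · right; show d ^ (2 * j + 1) = d; rw [zpow_add_one, zpow_mul, hd2, one_zpow, one_mul]
  have hcomm : ∀ (s : S0) (z : Z), Commute (S0.subtype s) (Z.subtype z) := fun s z => by
    rcases hZ z with e | e <;> show Commute (s : C) (z : C) <;> rw [e]
    · exact Commute.one_right _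
    · exact hdc s
  let ψ0 : S0 × Z →* C := MonoidHom.noncommCoprod S0.subtype Z.subtype hcomm
  have hπZ : ∀ z : Z, π (z : C) = 1 := fun z => by
    rcases hZ z with e | e <;> rw [e]
    · exact map_one π
    · exact (hker d).2 (Or.inr rfl)
  let ψ : S0 × Z →* T := ψ0.codRestrict T fun x => by
    show π ((x.1 : C) * (x.2 : C)) ∈ S0.map π
    rw [map_mul, hπZ, mul_one]
    exact ⟨x.1, x.1.2, rfl⟩
  have hψ : Function.Bijective ψ := by
    refine ⟨(injective_iff_map_eq_one ψ).2 fun x hx => ?_, fun t => ?_⟩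
    · have hx' : (x.1 : C) * (x.2 : C) = 1 := Subtype.ext_iff.1 hx
      have hx1 : (x.1 : C) = 1 := hinj _ x.1.2 (by
        have := congrArg π hx'
        rwa [map_mul, hπZ, mul_one, map_one] at this)
      rw [hx1, one_mul] at hx'
      exact Prod.ext (Subtype.ext hx1) (Subtype.ext hx')
    · obtain ⟨s, hs, he⟩ := t.2
      have hz : s⁻¹ * (t : C) ∈ Z := by
        rcases (hker _).1 (show π (s⁻¹ * (t : C)) = 1 by rw [map_mul, map_inv, he, inv_mul_cancel]) with e | e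
        · rw [e]; exact one_mem _
        · rw [e]; exact Subgroup.mem_zpowers d
      exact ⟨(⟨s, hs⟩, ⟨_, hz⟩), Subtype.ext (mul_inv_cancel_left s (t : C))⟩
  let eqv := MulEquiv.ofBijective ψ hψ
  letI : CommGroup Z := { Z.toGroup with
    mul_comm := fun a b => Subtype.ext (by
      rcases hZ a with e | e <;> show (a : C) * b = b * a <;> rw [e]
      · simp
      · exact (hdc b).symm) }
  let φ : T →* Z := (MonoidHom.snd _ _).comp eqv.symm.toMonoidHom
  let tr : C →* Z := MonoidHom.transfer φ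
  have key : ∀ (k : ℕ) (g : C), g⁻¹ * d ^ k * g ∈ T → g⁻¹ * d ^ k * g = d ^ k := fun k g _ => by
    rw [mul_assoc, (Commute.pow_left (hdc g).symm k).eq, inv_mul_cancel_left]
  have htriv : tr d = 1 := by
    have : d ∈ tr.ker := Abelianization.commutator_subset_ker tr (by rw [hperf]; trivial)
    exact this
  rw [show tr d = φ ⟨d ^ T.index, MonoidHom.transfer_eq_pow_aux d key⟩ from
    MonoidHom.transfer_eq_pow φ d key] at htriv
  have hTidx : Odd T.index := by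
    show Odd ((S0.map π).comap π).index
    rwa [Subgroup.index_comap_of_surjective _ hπ]
  obtain ⟨j, hj⟩ := hTidx
  have hdpow : d ^ T.index = d := by rw [hj, pow_succ, pow_mul, pow_two, hdd, one_pow, one_mul]
  have he : eqv (1, ⟨d, Subgroup.mem_zpowers d⟩) =
      ⟨d ^ T.index, MonoidHom.transfer_eq_pow_aux d key⟩ :=
    Subtype.ext (by show (1 : C) * d = d ^ T.index; rw [one_mul, hdpow])
  rw [← he] at htriv
  simp only [φ, MonoidHom.coe_comp, MulEquiv.coe_toMonoidHom, Function.comp_apply,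
    MulEquiv.symm_apply_apply, MonoidHom.coe_snd] at htriv
  exact hd1 (Subtype.ext_iff.1 htriv)

/-- There are twenty-two. -/
theorem card_eq : Set.ncard {x : C | x ∈ Ab π ∧ P x} = 22 := by
  have hf := card_formula hF π hπ d hker hdd hd1 hdc P hPd hP1 hPc hPsq hPinv hNW hT hperf
  have l0 := mult_le_one hF π hπ d hker hdd hd1 hdc P hPd hP1 hPc hPsq hPinv hNW hT hperf
    (r := 0) (by norm_num)
  have l1 := mult_le_one hF π hπ d hker hdd hd1 hdc P hPd hP1 hPc hPsq hPinv hNW hT hperf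
    (r := 1) (by norm_num)
  have l2 : mult hF π P 2 ≤ 2 :=
    mu_le_two hF π hπ d hker hdd hd1 hdc P hPd hP1 hPc hPsq hPinv hNW hT hperf (rep 2)
  have bad : ∀ p, p.Prime → p ∈ [211, 281, 491, 29, 151, 97, 257] →
      ¬ p ∣ Set.ncard {x : C | x ∈ Ab π ∧ P x} := fun p hp hm h => by
    obtain ⟨f, hf, hd⟩ :=
      prime_dvd_count hF π hπ d hker hdd hd1 hdc P hPd hP1 hPc hPsq hPinv hNW hT hperf hp h
    exact bad_primes f hf p hm hd
  have hdvd : ∀ p n : ℕ, p.Prime → p ∈ [211, 281, 491, 29, 151, 97, 257] → p ∣ n →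
      Set.ncard {x : C | x ∈ Ab π ∧ P x} ≠ n := fun p n hp hm hd e => bad p hp hm (e ▸ hd)
  have b211 := hdvd 211 211 (by norm_num) (by simp) dvd_rfl
  have b281 := hdvd 281 281 (by norm_num) (by simp) dvd_rfl
  have b491 := hdvd 491 491 (by norm_num) (by simp) dvd_rfl
  have b232 := hdvd 29 232 (by norm_num) (by simp) (by norm_num)
  have b302 := hdvd 151 302 (by norm_num) (by simp) (by norm_num)
  have b582 := hdvd 97 582 (by norm_num) (by simp) (by norm_num)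
  have b771 := hdvd 257 771 (by norm_num) (by simp) (by norm_num)
  by_cases c0 : mult hF π P 0 = 0 ∧ mult hF π P 1 = 0 ∧ mult hF π P 2 = 2
  · exact (not_002 hF π hπ d hker hdd hd1 hdc P hPd hP1 hPc hPsq hPinv hNW hT hperf c0.1 c0.2.1 c0.2.2).elim
  by_cases c1 : mult hF π P 0 = 1 ∧ mult hF π P 1 = 1 ∧ mult hF π P 2 = 2
  · exact (not_112 hF π hπ d hker hdd hd1 hdc P hPd hP1 hPc hPsq hPinv hNW hT hperf c1.1 c1.2.1 c1.2.2).elim
  by_cases c2 : mult hF π P 0 = 1 ∧ mult hF π P 1 = 1 ∧ mult hF π P 2 = 1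
  · exact (not_111 hF π hπ d hker hdd hd1 hdc P hPd hP1 hPc hPsq hPinv hNW hT hperf c2.1 c2.2.1 c2.2.2).elim
  by_cases c3 : mult hF π P 0 = 1 ∧ mult hF π P 1 = 0 ∧ mult hF π P 2 = 0
  · rw [hf, c3.1, c3.2.1, c3.2.2]
  replace hf : Set.ncard {x : C | x ∈ Ab π ∧ P x} = 1 := by
    interval_cases mult hF π P 0 <;> interval_cases mult hF π P 1 <;>
      interval_cases mult hF π P 2 <;> simp_all
  obtain ⟨x, hPx, hxd⟩ := hNW
  obtain ⟨k, hk⟩ := exists_conj_mem_Eb hF (x := π x) (by rw [← map_mul, hPinv x hPx, map_one])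
  obtain ⟨c, rfl⟩ := hπ k
  have hc : c * x * c⁻¹ ∈ Ab π := by
    show π (c * x * c⁻¹) ∈ Eb
    rwa [map_mul, map_mul, map_inv]
  obtain ⟨y, hy⟩ := Set.ncard_eq_one.1 hf
  have a1 : d ∈ ({y} : Set C) := hy ▸ ⟨d_mem hF π hπ d hker hdd hd1 hdc P hPd hP1 hPc hPsq hPinv
    ⟨x, hPx, hxd⟩ hT hperf, hPd⟩
  have a2 : c * x * c⁻¹ ∈ ({y} : Set C) := hy ▸ ⟨hc, (hPc c x).2 hPx⟩
  rw [Set.mem_singleton_iff] at a1 a2
  rw [← a1] at a2
  refine (hxd ?_).elim
  calc x = c⁻¹ * (c * x * c⁻¹) * c := by group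
    _ = d := by rw [a2, mul_assoc, ← hdc c, inv_mul_cancel_left]

end Cfsg.Agent.U6Thompson
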