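import Cfsg.Agent.Lib.Unitary.Center
import Cfsg.Agent.Lib.Unitary.Generation
import Cfsg.Agent.RecogB.CoverInvolution

/-!
The field with four elements as a table on `Fin 4`.
-/

set_option autoImplicit false

namespace Cfsg.Agent.U6Thompson

open Cfsg.Agent.Unitary

/-- Sum in the table. -/
def fadd : Fin 4 → Fin 4 → Fin 4 :=
  ![![0, 1, 2, 3], ![1, 0, 3, 2], ![2, 3, 0, 1], ![3, 2, 1, 0]]

/-- Product in the table. -/
def fmul : Fin 4 → Fin 4 → Fin 4 :=
  ![![0, 0, 0, 0], ![0, 1, 2, 3], ![0, 2, 3, 1], ![0, 3, 1, 2]]

/-- Squaring in the table. -/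
def fsq : Fin 4 → Fin 4 := ![0, 1, 3, 2]

variable {F : Type*} [Field F] [Fintype F] (hF : Fintype.card F = 2 ^ 2)

include hF

theorem two_zero : (2 : F) = 0 := RecogB.CoverInvolution.two_eq_zero hF

theorem pow_four (x : F) : x ^ 4 = x := by
  have := FiniteField.pow_card x
  rw [hF] at this
  exact this

theorem add_self (x : F) : x + x = 0 := by
  linear_combination x * two_zero hF

theorem sq_sq (x : F) : (x ^ 2) ^ 2 = x := by rw [← pow_mul]; exact pow_four hF x

theorem cube_or (x : F) : x ^ 3 = 0 ∨ x ^ 3 = 1 :=
  RecogB.CoverInvolution.eq_one_or hF _ (by linear_combination (x ^ 2) * pow_four hF x)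

/-- The table values in the field. -/
noncomputable def val : Fin 4 → F :=
  ![0, 1, (RecogB.CoverInvolution.exists_omega hF).choose,
    (RecogB.CoverInvolution.exists_omega hF).choose + 1]

theorem omega_spec : val hF 2 ^ 2 + val hF 2 + 1 = 0 :=
  (RecogB.CoverInvolution.exists_omega hF).choose_spec.1

theorem val_add (a b : Fin 4) : val hF (fadd a b) = val hF a + val hF b := by
  have h2 := two_zero hF
  set w := (RecogB.CoverInvolution.exists_omega hF).choose with hw
  fin_cases a <;> fin_cases b <;> simp [val, fadd, ← hw] <;>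
    first | ring1 | linear_combination (-1 : F) * h2 | linear_combination (-w) * h2 |
      linear_combination (-(w + 1)) * h2

theorem val_mul (a b : Fin 4) : val hF (fmul a b) = val hF a * val hF b := by
  have h2 := two_zero hF
  set w := (RecogB.CoverInvolution.exists_omega hF).choose with hw
  have hs : w ^ 2 + w + 1 = 0 := omega_spec hF
  fin_cases a <;> fin_cases b <;> simp [val, fmul, ← hw] <;>
    first | ring1 | linear_combination (-1 : F) * hs + (w + 1) * h2 | linear_combination (-1 : F) * hs + h2 |
      linear_combination (-1 : F) * hs + w * h2 | linear_combination (-1 : F) * hs |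
      linear_combination (-1 : F) * hs - w * h2

theorem val_sq (a : Fin 4) : val hF (fsq a) = val hF a ^ 2 := by
  rw [pow_two, ← val_mul hF]
  congr 1
  revert a
  decide

omit [Field F] [Fintype F] hF in
theorem fmul_inv : ∀ c : Fin 4, c ≠ 0 → ∃ d, fmul c d = 1 := by decide

omit [Field F] [Fintype F] hF in
theorem eq_of_fadd : ∀ a b : Fin 4, fadd a b = 0 → a = b := by decide

theorem val_injective : Function.Injective (val hF) := by
  intro a b h
  have hz : ∀ c : Fin 4, val hF c = 0 → c = 0 := by
    intro c hc
    by_contra hne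
    obtain ⟨d, hd⟩ := fmul_inv c hne
    have := val_mul hF c d
    rw [hd, hc, zero_mul] at this
    simp [val] at this
  have h0 : val hF (fadd a b) = 0 := by rw [val_add, h, add_self hF]
  exact eq_of_fadd a b (hz _ h0)

theorem val_bijective : Function.Bijective (val hF) :=
  (Fintype.bijective_iff_injective_and_card _).2 ⟨val_injective hF, by rw [hF]; rfl⟩

theorem exists_val (x : F) : ∃ a, val hF a = x := (val_bijective hF).2 x

end Cfsg.Agent.U6Thompson
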