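import Cfsg.Agent.U6Thompson.Orbits
import Cfsg.Prelude.Def_Transfer

/-!
Elementary abelian subgroups of `PSU₆(2)` and of its extensions by a central involution.
-/

set_option autoImplicit false
set_option linter.unusedSectionVars false

namespace Cfsg.Agent.U6Thompson

open Cfsg.Agent.Unitary Cfsg.Agent.RecogB
open scoped Pointwise

variable {F : Type*} [Field F] [Fintype F] (hF : Fintype.card F = 2 ^ 2)

/-- The order of a preimage. -/
theorem card_comap_surj {A B : Type*} [Group A] [Group B] (f : A →* B) (hf : Function.Surjective f)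
    [Finite B] (K : Subgroup B) : Nat.card (K.comap f) = Nat.card f.ker * Nat.card K := by
  have h1 := (K.comap f).card_mul_index
  rw [K.index_comap_of_surjective hf, Subgroup.card_eq_card_quotient_mul_card_subgroup f.ker,
    Nat.card_congr (QuotientGroup.quotientKerEquivOfSurjective f hf).toEquiv,
    ← K.card_mul_index] at h1
  have hpos : 0 < K.index := Nat.pos_of_ne_zero Subgroup.index_ne_zero_of_finite
  exact Nat.eq_of_mul_eq_mul_right hpos (h1.trans (by ring))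

/-- The image of an element. -/
abbrev im (g : SU 6 F 2) : PSU 6 F 2 := QuotientGroup.mk g

/-- The image of the radical. -/
def Eb : Subgroup (PSU 6 F 2) := (E : Subgroup (SU 6 F 2)).map (QuotientGroup.mk' _)

theorem mem_Eb {x : PSU 6 F 2} : x ∈ (Eb : Subgroup (PSU 6 F 2)) ↔ ∃ g ∈ (E : Subgroup (SU 6 F 2)), im g = x :=
  Iff.rfl

include hF

theorem im_injective_E {g h : SU 6 F 2} (hg : g ∈ E) (hh : h ∈ E) (he : im g = im h) : g = h :=
  inv_mul_eq_one.1 (scalar_eq_one hF (mul_mem (inv_mem hg) hh) (QuotientGroup.eq.1 he))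

theorem card_Eb : Nat.card (Eb : Subgroup (PSU 6 F 2)) = 2 ^ 9 := by
  rw [← card_E hF]
  refine (Nat.card_congr (Equiv.ofBijective (fun g : (E : Subgroup (SU 6 F 2)) =>
    (⟨im g.1, g.1, g.2, rfl⟩ : (Eb : Subgroup (PSU 6 F 2)))) ⟨fun g h he => ?_, fun x => ?_⟩)).symm
  · exact Subtype.ext (im_injective_E hF g.2 h.2 (Subtype.ext_iff.1 he))
  · obtain ⟨g, hg, he⟩ := mem_Eb.1 x.2
    exact ⟨⟨g, hg⟩, Subtype.ext he⟩

theorem Eb_comm {x y : PSU 6 F 2} (hx : x ∈ Eb) (hy : y ∈ Eb) : x * y = y * x := by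
  obtain ⟨g, hg, rfl⟩ := mem_Eb.1 hx
  obtain ⟨h, hh, rfl⟩ := mem_Eb.1 hy
  simp only [im, ← QuotientGroup.mk_mul, E_comm hF hg hh]

theorem Eb_sq {x : PSU 6 F 2} (hx : x ∈ Eb) : x * x = 1 := by
  obtain ⟨g, hg, rfl⟩ := mem_Eb.1 hx
  rw [im, ← QuotientGroup.mk_mul, E_sq hF hg]
  rfl

theorem center_cube {z : SU 6 F 2} (hz : z ∈ Subgroup.center (SU 6 F 2)) : z * z * z = 1 := by
  obtain ⟨r, hr⟩ := (mem_center_iff hF (by norm_num)).1 hz
  refine eq_of_smul_eq_SU fun x => ?_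
  rw [mul_smul, mul_smul, hr, hr, hr, smul_smul, smul_smul, one_smul]
  rcases cube_or hF r with h | h
  · have h0 : r = 0 := eq_zero_of_pow_eq_zero h
    have := congrFun ((hr (eI 0)).trans (by rw [h0, zero_smul])) 0
    have h1 := herm_smul_SU z (eI 0 : Fin 6 → F) (eI 0)
    rw [hr, h0, zero_smul, herm_zero_left, herm_eI_eI hF, if_pos rfl] at h1
    exact absurd h1 zero_ne_one
  · rw [show r * r * r = r ^ 3 by ring, h, one_smul]

/-- An element squaring to one in the quotient has a representative squaring to one. -/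
theorem exists_sq_lift {x : PSU 6 F 2} (hx : x * x = 1) : ∃ g : SU 6 F 2, g * g = 1 ∧ im g = x := by
  obtain ⟨g, rfl⟩ := QuotientGroup.mk_surjective x
  rw [← QuotientGroup.mk_mul, QuotientGroup.eq_one_iff] at hx
  refine ⟨g * g * g, ?_, ?_⟩
  · rw [← center_cube hF hx]; group
  · refine QuotientGroup.eq.2 ?_
    rw [show (g * g * g)⁻¹ * g = (g * g)⁻¹ by group]
    exact inv_mem hx

/-- An element squaring to one is conjugate into the image of the radical. -/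
theorem exists_conj_mem_Eb {x : PSU 6 F 2} (hx : x * x = 1) :
    ∃ k : PSU 6 F 2, k * x * k⁻¹ ∈ (Eb : Subgroup (PSU 6 F 2)) := by
  obtain ⟨g, hg, rfl⟩ := exists_sq_lift hF hx
  obtain ⟨k, hk⟩ := exists_conj_mem hF hg
  exact ⟨im k, mem_Eb.2 ⟨_, hk, rfl⟩⟩

/-- Elementary abelian subgroups of the quotient. -/
theorem EA_image (B : Subgroup (PSU 6 F 2)) (hsq : ∀ x ∈ B, x * x = 1) :
    Nat.card B ≤ 2 ^ 9 ∧ (Nat.card B = 2 ^ 9 → ∃ k : PSU 6 F 2, ∀ x, x ∈ B ↔ k * x * k⁻¹ ∈ Eb) := by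
  have hcz : ∀ g h : SU 6 F 2, g * g = 1 → h * h = 1 → im g ∈ B → im h ∈ B → g * h = h * g := by
    intro g h hg hh hgB hhB
    set z := g * h * (g * h) with hz
    have hzc : z ∈ Subgroup.center (SU 6 F 2) := (QuotientGroup.eq_one_iff z).1 (by
      rw [hz, QuotientGroup.mk_mul, QuotientGroup.mk_mul]
      exact hsq _ (mul_mem hgB hhB))
    have h1 : g * z * g = z⁻¹ := by
      rw [hz]
      have gi : g⁻¹ = g := inv_eq_of_mul_eq_one_right hg
      have hi : h⁻¹ = h := inv_eq_of_mul_eq_one_right hh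
      simp only [mul_inv_rev, gi, hi, ← mul_assoc, hg, one_mul]
    have h2 : z * z = 1 := by
      rw [Subgroup.mem_center_iff.1 hzc g, mul_assoc, hg, mul_one] at h1
      nth_rw 1 [h1]
      exact inv_mul_cancel z
    have h3 := center_cube hF hzc
    rw [h2, one_mul, hz] at h3
    have gi : g⁻¹ = g := inv_eq_of_mul_eq_one_right hg
    have hi : h⁻¹ = h := inv_eq_of_mul_eq_one_right hh
    have := eq_inv_of_mul_eq_one_left h3
    rwa [mul_inv_rev, gi, hi] at this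
  let L : Subgroup (SU 6 F 2) :=
    { carrier := {g | g * g = 1 ∧ im g ∈ B}
      one_mem' := ⟨one_mul 1, by simp [im]⟩
      mul_mem' := by
        rintro g h ⟨hg, hgB⟩ ⟨hh, hhB⟩
        exact ⟨by rw [mul_assoc, ← mul_assoc h g h, ← hcz g h hg hh hgB hhB, mul_assoc g h h, hh,
            mul_one, hg],
          by rw [im, QuotientGroup.mk_mul]; exact mul_mem hgB hhB⟩
      inv_mem' := by
        rintro g ⟨hg, hgB⟩
        rw [inv_eq_of_mul_eq_one_right hg]
        exact ⟨hg, hgB⟩ }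
  have hbij : Function.Bijective (fun g : L => (⟨im g.1, g.2.2⟩ : B)) := by
    refine ⟨fun g h he => ?_, fun x => ?_⟩
    · have hm : (g.1)⁻¹ * h.1 ∈ Subgroup.center (SU 6 F 2) :=
        QuotientGroup.eq.1 (Subtype.ext_iff.1 he)
      have h2 := (mul_mem (inv_mem g.2) h.2 : (g.1)⁻¹ * h.1 ∈ L).1
      have h3 := center_cube hF hm
      rw [h2, one_mul] at h3
      exact Subtype.ext (inv_mul_eq_one.1 h3)
    · obtain ⟨g, hg, he⟩ := exists_sq_lift hF (hsq x.1 x.2)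
      exact ⟨⟨g, hg, he ▸ x.2⟩, Subtype.ext he⟩
  have hcard : Nat.card L = Nat.card B := Nat.card_congr (Equiv.ofBijective _ hbij)
  rw [← hcard]
  have key : 2 ^ 9 ≤ Nat.card L → ∃ g : SU 6 F 2, L.map (MulAut.conj g).toMonoidHom = E :=
    exists_conj_eq hF L (fun u hu v hv => hcz u v hu.1 hv.1 hu.2 hv.2) (fun u hu => hu.1)
  constructor
  · by_contra h
    obtain ⟨g, hg⟩ := key (by omega)
    have := card_E hF (F := F)
    rw [← hg, Subgroup.card_map_of_injective (MulAut.conj g).injective] at this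
    omega
  · intro h
    obtain ⟨g, hg⟩ := key h.ge
    refine ⟨im g, fun x => ⟨fun hx => ?_, fun hx => ?_⟩⟩
    · obtain ⟨l, hl⟩ := hbij.2 ⟨x, hx⟩
      have hl' : im l.1 = x := Subtype.ext_iff.1 hl
      refine mem_Eb.2 ⟨g * l.1 * g⁻¹, hg ▸ ⟨l.1, l.2, rfl⟩, ?_⟩
      rw [← hl']; rfl
    · obtain ⟨e, he, heq⟩ := mem_Eb.1 hx
      rw [← hg] at he
      obtain ⟨l, hl, rfl⟩ := he
      have : im l = x := by
        have h' : im g * im l * (im g)⁻¹ = im g * x * (im g)⁻¹ := heq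
        simpa using h'
      exact this ▸ hl.2

section Cover

variable {C : Type*} [Group C] [Finite C] (π : C →* PSU 6 F 2) (hπ : Function.Surjective π) (d : C)
  (hker : ∀ c, π c = 1 ↔ c = 1 ∨ c = d) (hdd : d * d = 1) (hd1 : d ≠ 1)
  (hdc : ∀ c : C, c * d = d * c)

omit hF in
/-- The preimage of the image of the radical. -/
def Ab : Subgroup C := (Eb : Subgroup (PSU 6 F 2)).comap π

include hπ hker hdd hd1 hdc

theorem mem_Ab {x : C} : x ∈ Ab π ↔ π x ∈ (Eb : Subgroup (PSU 6 F 2)) := Iff.rfl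

theorem sq_of_Ab {x : C} (hx : x ∈ Ab π) : x * x = 1 :=
  CoverInvolution.sq_eq_one_of_image hF π hπ d hker hdd hdc (Eb_sq hF hx)

theorem Ab_EA : IsElementaryAbelian 2 (Ab π) := by
  refine ⟨⟨⟨fun a b => Subtype.ext ?_⟩⟩, fun a ha => by rw [pow_two, sq_of_Ab hF π hπ d hker hdd hd1 hdc ha]⟩
  have s := fun x (hx : x ∈ Ab π) => sq_of_Ab hF π hπ d hker hdd hd1 hdc hx
  have e := inv_eq_of_mul_eq_one_right (s _ (mul_mem a.2 b.2))
  rw [mul_inv_rev, inv_eq_of_mul_eq_one_right (s _ a.2), inv_eq_of_mul_eq_one_right (s _ b.2)] at e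
  exact e.symm

theorem card_ker : Nat.card π.ker = 2 := by
  have : (π.ker : Set C) = {1, d} := by ext x; simp [hker]
  rw [← SetLike.coe_sort_coe, Nat.card_coe_set_eq, this, Set.ncard_pair hd1.symm]

theorem card_Ab : Nat.card (Ab π) = 2 ^ 10 := by
  have := card_comap_surj π hπ (Eb : Subgroup (PSU 6 F 2))
  rw [Ab, this, card_ker hF π hπ d hker hdd hd1 hdc, card_Eb hF]
  norm_num

/-- Elementary abelian subgroups of the extension. -/
theorem EA_cover (D : Subgroup C) (hD : IsElementaryAbelian 2 D) :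
    Nat.card D ≤ 2 ^ 10 ∧ (Nat.card D = 2 ^ 10 → ∃ c : C, ∀ x, x ∈ D ↔ c * x * c⁻¹ ∈ Ab π) := by
  have hB : ∀ x ∈ D.map π, x * x = 1 := by
    rintro _ ⟨y, hy, rfl⟩
    rw [← map_mul, ← pow_two, hD.2 y hy, map_one]
  obtain ⟨h1, h2⟩ := EA_image hF (D.map π) hB
  have hle : D ≤ (D.map π).comap π := Subgroup.le_comap_map π D
  have hc := card_comap_surj π hπ (D.map π)
  rw [card_ker hF π hπ d hker hdd hd1 hdc] at hc
  have h3 : Nat.card D ≤ Nat.card ((D.map π).comap π) := Subgroup.card_le_of_le hle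
  refine ⟨by omega, fun he => ?_⟩
  obtain ⟨k, hk⟩ := h2 (by omega)
  obtain ⟨c, rfl⟩ := hπ k
  refine ⟨c, fun x => ?_⟩
  have heq : D = (D.map π).comap π := Subgroup.eq_of_le_of_card_ge hle (by omega)
  rw [mem_Ab hF π hπ d hker hdd hd1 hdc, map_mul, map_mul, map_inv, ← hk]
  exact (SetLike.ext_iff.1 heq x)

/-- The preimage of the radical is the only one of its kind in a two-subgroup. -/
theorem unique_in_two_group {S : Subgroup C} (hS : IsPGroup 2 S) {c c' : C}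
    (h1 : ∀ x, c * x * c⁻¹ ∈ Ab π → x ∈ S) (h2 : ∀ x, c' * x * c'⁻¹ ∈ Ab π → x ∈ S) :
    ∀ x, c * x * c⁻¹ ∈ Ab π → c' * x * c'⁻¹ ∈ Ab π := by
  intro x hx
  obtain ⟨k, hk⟩ := QuotientGroup.mk_surjective (π (c' * c⁻¹))
  obtain ⟨g, hg, hge⟩ := mem_Eb.1 hx
  refine mem_Eb.2 ⟨k * g * k⁻¹, conj_eq_of_le hF (P := (S.map π).map (MulAut.conj (π c')).toMonoidHom)
    ((hS.map π).map _) ?_ ?_ hg, ?_⟩
  · intro e he
    obtain ⟨y, hy⟩ := hπ (im e)
    refine ⟨π (c'⁻¹ * y * c'), ⟨_, h2 _ ?_, rfl⟩, ?_⟩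
    · rw [show c' * (c'⁻¹ * y * c') * c'⁻¹ = y by group]
      exact mem_Eb.2 ⟨e, he, hy.symm⟩
    · show π c' * π (c'⁻¹ * y * c') * (π c')⁻¹ = im e
      simp [hy, mul_assoc]
  · intro e he
    obtain ⟨y, hy⟩ := hπ (im e)
    refine ⟨π (c⁻¹ * y * c), ⟨_, h1 _ ?_, rfl⟩, ?_⟩
    · rw [show c * (c⁻¹ * y * c) * c⁻¹ = y by group]
      exact mem_Eb.2 ⟨e, he, hy.symm⟩
    · show π c' * π (c⁻¹ * y * c) * (π c')⁻¹ = im (k * e * k⁻¹)
      rw [im, QuotientGroup.mk_mul, QuotientGroup.mk_mul, QuotientGroup.mk_inv, hk]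
      simp [hy, mul_assoc]
  · rw [im, QuotientGroup.mk_mul, QuotientGroup.mk_mul, QuotientGroup.mk_inv, hk,
      show (QuotientGroup.mk g : PSU 6 F 2) = π (c * x * c⁻¹) from hge]
    simp [mul_assoc]

/-- The subgroups of largest order in a Sylow two-subgroup. -/
theorem thompson_eq (S : Sylow 2 C) :
    ∃ c : C, ∀ x, x ∈ thompsonSubgroupOf 2 (S : Subgroup C) ↔ c * x * c⁻¹ ∈ Ab π := by
  have hAb : IsPGroup 2 (Ab π) := IsPGroup.of_card (card_Ab hF π hπ d hker hdd hd1 hdc)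
  obtain ⟨Q, hQ⟩ := hAb.exists_le_sylow
  obtain ⟨c, hc⟩ := MulAction.exists_smul_eq C S Q
  have hmem : ∀ x, c * x * c⁻¹ ∈ Ab π → x ∈ (S : Subgroup C) := by
    intro x hx
    have := hQ hx
    rw [← hc] at this
    change c * x * c⁻¹ ∈ MulAut.conj c • (S : Subgroup C) at this
    rwa [Subgroup.mem_pointwise_smul_iff_inv_smul_mem, MulAut.smul_def, MulAut.conj_inv_apply,
      show c⁻¹ * (c * x * c⁻¹) * c = x by group] at this
  refine ⟨c, ?_⟩
  let A0 : Subgroup (S : Subgroup C) := ((Ab π).comap (MulAut.conj c).toMonoidHom).subgroupOf (S : Subgroup C)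
  have hA0c : Nat.card A0 = 2 ^ 10 := by
    rw [← card_Ab hF π hπ d hker hdd hd1 hdc]
    exact Nat.card_congr
      { toFun := fun a => ⟨c * a.1.1 * c⁻¹, a.2⟩
        invFun := fun a => ⟨⟨c⁻¹ * a.1 * c, hmem _ (by simp [mul_assoc])⟩, by
          show c * (c⁻¹ * a.1 * c) * c⁻¹ ∈ Ab π
          simp [mul_assoc]⟩
        left_inv := fun a => by ext; simp [mul_assoc]
        right_inv := fun a => by ext; simp [mul_assoc] }
  have hA0e : IsElementaryAbelian 2 A0 := by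
    refine ⟨⟨⟨fun a b => ?_⟩⟩, fun a ha => ?_⟩
    · have h := (Ab_EA hF π hπ d hker hdd hd1 hdc).1.is_comm.comm
        (⟨c * a.1.1 * c⁻¹, a.2⟩ : Ab π) ⟨c * b.1.1 * c⁻¹, b.2⟩
      have h' : c * a.1.1 * c⁻¹ * (c * b.1.1 * c⁻¹) = c * b.1.1 * c⁻¹ * (c * a.1.1 * c⁻¹) :=
        congrArg Subtype.val h
      ext
      show a.1.1 * b.1.1 = b.1.1 * a.1.1
      have e : ∀ u v : C, c * u * c⁻¹ * (c * v * c⁻¹) = c * (u * v) * c⁻¹ := fun u v => by group
      rw [e, e] at h'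
      exact mul_left_cancel (mul_right_cancel h')
    · have h' := sq_of_Ab hF π hπ d hker hdd hd1 hdc (x := c * a.1 * c⁻¹) ha
      ext
      show (a.1 : C) ^ 2 = 1
      rw [pow_two]
      exact conj_eq_one_iff.1 (by rw [← conj_mul]; exact h')
  have hmax : A0 ∈ maxElementaryAbelianSubgroups 2 (S : Subgroup C) := by
    refine ⟨hA0e, fun D hD => ?_⟩
    rw [hA0c, ← Subgroup.card_map_of_injective (S : Subgroup C).subtype_injective]
    refine (EA_cover hF π hπ d hker hdd hd1 hdc _ ⟨⟨⟨?_⟩⟩, ?_⟩).1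
    · rintro ⟨_, a, ha, rfl⟩ ⟨_, b, hb, rfl⟩
      exact Subtype.ext (congrArg (fun z : D => z.1.1) (hD.1.is_comm.comm ⟨a, ha⟩ ⟨b, hb⟩))
    · rintro _ ⟨a, ha, rfl⟩
      rw [← map_pow, hD.2 a ha, map_one]
  have hth : thompsonSubgroup 2 (S : Subgroup C) = A0 := by
    refine le_antisymm (sSup_le fun D hD => ?_) (le_sSup hmax)
    have hcard : Nat.card D = 2 ^ 10 := by
      refine le_antisymm ?_ (hA0c ▸ hD.2 A0 hA0e)
      exact hA0c ▸ hmax.2 D hD.1
    have hEA : IsElementaryAbelian 2 (D.map (S : Subgroup C).subtype) := by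
      refine ⟨⟨⟨?_⟩⟩, ?_⟩
      · rintro ⟨_, a, ha, rfl⟩ ⟨_, b, hb, rfl⟩
        exact Subtype.ext (congrArg (fun z : D => z.1.1) (hD.1.1.is_comm.comm ⟨a, ha⟩ ⟨b, hb⟩))
      · rintro _ ⟨a, ha, rfl⟩
        rw [← map_pow, hD.1.2 a ha, map_one]
    obtain ⟨c', hc'⟩ := (EA_cover hF π hπ d hker hdd hd1 hdc _ hEA).2
      (by rw [Subgroup.card_map_of_injective (S : Subgroup C).subtype_injective, hcard])
    intro a ha
    exact unique_in_two_group hF π hπ d hker hdd hd1 hdc S.isPGroup'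
      (fun x hx => by obtain ⟨y, -, rfl⟩ := (hc' x).2 hx; exact y.2) hmem a.1 ((hc' _).1 ⟨a, ha, rfl⟩)
  intro x
  rw [thompsonSubgroupOf, hth]
  exact ⟨fun ⟨a, ha, he⟩ => he ▸ ha, fun hx => ⟨⟨x, hmem x hx⟩, hx, rfl⟩⟩

end Cover

end Cfsg.Agent.U6Thompson
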