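import Cfsg.Agent.U6Thompson.Field

/-!
Elementary abelian subgroups of `SU₆(2)` of order at least `2^9` act trivially on their own commutator
space: any two of the nilpotent parts multiply to zero.
-/

set_option autoImplicit false
set_option linter.unusedSectionVars false

namespace Cfsg.Agent.U6Thompson

open Cfsg.Agent.Unitary

variable {F : Type*} [Field F] [Fintype F] (hF : Fintype.card F = 2 ^ 2)

/-- The nilpotent part of an element. -/
def nil (g : SU 6 F 2) (x : Fin 6 → F) : Fin 6 → F := g • x + x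

/-- Two pairs pair to a fixed element. -/
def compat (a b : Fin 4 × Fin 4) : Bool :=
  decide ((fadd (fmul a.1 (fsq b.1)) (fmul a.2 (fsq b.2))).val ≤ 1)

/-- A nonzero isotropic pair. -/
def good (a : Fin 4 × Fin 4) : Bool :=
  decide (a ≠ 0) && decide (fmul a.1 (fsq a.1) = fmul a.2 (fsq a.2))

set_option synthInstance.maxSize 4000 in
set_option maxRecDepth 4000 in
theorem no_four : ∀ a, good a = true → ∀ b, good b = true → compat a b = true → a ≠ b →
    ∀ c, good c = true → compat a c = true → compat b c = true → a ≠ c → b ≠ c →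
    ∀ d, good d = true → compat a d = true → compat b d = true → compat c d = true →
    a ≠ d → b ≠ d → c = d := by
  decide +kernel

theorem isoPairs_clique (s : Finset (Fin 4 × Fin 4))
    (hs : ∀ a ∈ s, fmul a.1 (fsq a.1) = fmul a.2 (fsq a.2))
    (hc : ∀ a ∈ s, ∀ b ∈ s, (fadd (fmul a.1 (fsq b.1)) (fmul a.2 (fsq b.2))).val ≤ 1) :
    s.card ≤ 4 := by
  by_contra h
  have h1 : 4 ≤ (s.erase 0).card := by
    have := Finset.pred_card_le_card_erase (s := s) (a := (0 : Fin 4 × Fin 4))
    omega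
  set t := s.erase 0 with ht
  obtain ⟨a, ha⟩ := Finset.card_pos.1 (by omega : 0 < t.card)
  have h2 : 3 ≤ (t.erase a).card := by rw [Finset.card_erase_of_mem ha]; omega
  obtain ⟨b, hb⟩ := Finset.card_pos.1 (by omega : 0 < (t.erase a).card)
  have h3 : 2 ≤ ((t.erase a).erase b).card := by rw [Finset.card_erase_of_mem hb]; omega
  obtain ⟨c, hc', d, hd, hne⟩ := Finset.one_lt_card.1 (by omega : 1 < ((t.erase a).erase b).card)
  simp only [Finset.mem_erase, ht] at ha hb hc' hd
  have g : ∀ x ∈ s, x ≠ 0 → good x = true := fun x hx h0 => by simp [good, h0, hs x hx]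
  have k : ∀ x ∈ s, ∀ y ∈ s, compat x y = true := fun x hx y hy => by
    simp [compat, hc x hx y hy]
  exact hne (no_four a (g a ha.2 ha.1) b (g b hb.2.2 hb.2.1) (k a ha.2 b hb.2.2) (Ne.symm hb.1)
    c (g c hc'.2.2.2 hc'.2.2.1) (k a ha.2 c hc'.2.2.2) (k b hb.2.2 c hc'.2.2.2) (Ne.symm hc'.2.1)
    (Ne.symm hc'.1) d (g d hd.2.2.2 hd.2.2.1) (k a ha.2 d hd.2.2.2) (k b hb.2.2 d hd.2.2.2)
    (k c hc'.2.2.2 d hd.2.2.2) (Ne.symm hd.2.1) (Ne.symm hd.1))

theorem fixed_le_one : ∀ n : Fin 4, fsq n = n → n.val ≤ 1 := by decide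

include hF

theorem nil_add (g : SU 6 F 2) (x y : Fin 6 → F) : nil g (x + y) = nil g x + nil g y := by
  rw [nil, nil, nil, smul_add]; abel

theorem nil_smul (g : SU 6 F 2) (a : F) (x : Fin 6 → F) : nil g (a • x) = a • nil g x := by
  rw [nil, nil, smul_comm, ← smul_add]

theorem vec_add_self (v : Fin 6 → F) : v + v = 0 := funext fun i => add_self hF (v i)

variable {g h : SU 6 F 2}

theorem nil_sym (hg : g * g = 1) (x y : Fin 6 → F) : herm 2 (nil g x) y = herm 2 x (nil g y) := by
  rw [nil, nil, herm_add_left, herm_add_right hF, ← herm_smul_SU g (g • x) y, ← mul_smul, hg,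
    one_smul]

theorem nil_nil (hg : g * g = 1) (x : Fin 6 → F) : nil g (nil g x) = 0 := by
  rw [nil, nil, smul_add, ← mul_smul, hg, one_smul, add_comm x, vec_add_self hF]

theorem nil_comm (hgh : g * h = h * g) (x : Fin 6 → F) : nil g (nil h x) = nil h (nil g x) := by
  rw [nil, nil, nil, nil, smul_add, smul_add, ← mul_smul, ← mul_smul, hgh]; abel

theorem fixed_bit {x : F} (h : x ^ 2 = x) : x = 0 ∨ x = 1 := RecogB.CoverInvolution.eq_one_or hF x h

theorem herm_diag (x : Fin 6 → F) : herm 2 x x ^ 2 = herm 2 x x := herm_self_fixed hF x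

/-- A self-adjoint operator with zero diagonal is zero. -/
theorem eq_zero_of_diag (T : (Fin 6 → F) → Fin 6 → F) (hadd : ∀ x y, T (x + y) = T x + T y)
    (hsmul : ∀ (a : F) x, T (a • x) = a • T x) (h : ∀ x, herm 2 (T x) x = 0) (x : Fin 6 → F) :
    T x = 0 := by
  obtain ⟨ω, hω, hω0⟩ := RecogB.CoverInvolution.exists_omega hF
  refine eq_zero_of_herm hF fun z => ?_
  set B := herm 2 (T x) z with hB
  set B' := herm 2 (T z) x with hB'
  have e1 := h (x + z)
  have e2 := h (x + ω • z)
  rw [hadd, herm_add_left, herm_add_right hF, herm_add_right hF, h x, h z, ← hB, ← hB'] at e1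
  rw [hadd, hsmul, herm_add_left, herm_smul_left, herm_add_right hF, herm_add_right hF,
    herm_smul_right hF, herm_smul_right hF, h x, h z, ← hB, ← hB'] at e2
  linear_combination (-1) * e2 + ω * e1 + B * hω - ω * B * two_zero hF

/-- Two vectors of square-zero Hermitian two-by-two matrices that commute multiply to zero. -/
theorem plane_product {a a' β e e' γ : F} (ha : a ^ 2 = a) (ha' : a' ^ 2 = a') (he : e ^ 2 = e)
    (he' : e' ^ 2 = e') (hb1 : a ^ 3 + β ^ 3 = 0) (hb2 : β ^ 3 + a' ^ 3 = 0)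
    (hc1 : e ^ 3 + γ ^ 3 = 0) (hc2 : γ ^ 3 + e' ^ 3 = 0)
    (hcom : a * e + β * γ ^ 2 = e * a + γ * β ^ 2) :
    a * e + β * γ ^ 2 = 0 ∧ a * γ + β * e' = 0 ∧ β ^ 2 * e + a' * γ ^ 2 = 0 ∧
      β ^ 2 * γ + a' * e' = 0 := by
  have h2 := two_zero hF
  rcases fixed_bit hF ha with rfl | rfl <;> rcases fixed_bit hF he with rfl | rfl
  case inl.inl =>
    obtain rfl : β = 0 := eq_zero_of_pow_eq_zero (n := 3) (by linear_combination hb1)
    obtain rfl : γ = 0 := eq_zero_of_pow_eq_zero (n := 3) (by linear_combination hc1)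
    have : a' = 0 := eq_zero_of_pow_eq_zero (n := 3) (by linear_combination hb2)
    subst this
    simp
  case inl.inr =>
    obtain rfl : β = 0 := eq_zero_of_pow_eq_zero (n := 3) (by linear_combination hb1)
    have : a' = 0 := eq_zero_of_pow_eq_zero (n := 3) (by linear_combination hb2)
    subst this
    simp
  case inr.inl =>
    obtain rfl : γ = 0 := eq_zero_of_pow_eq_zero (n := 3) (by linear_combination hc1)
    have : e' = 0 := eq_zero_of_pow_eq_zero (n := 3) (by linear_combination hc2)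
    subst this
    simp
  case inr.inr =>
    have hb : β ^ 3 = 1 := by linear_combination hb1 - h2
    have hc : γ ^ 3 = 1 := by linear_combination hc1 - h2
    obtain rfl : a' = 1 := (fixed_bit hF ha').resolve_left fun h => by
      subst h; simp at hb2; simp [hb2] at hb
    obtain rfl : e' = 1 := (fixed_bit hF he').resolve_left fun h => by
      subst h; simp at hc2; simp [hc2] at hc
    have hk : (β * γ ^ 2) ^ 2 = β * γ ^ 2 := by
      have h4 := pow_four hF γ
      linear_combination β ^ 2 * h4 - hcom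
    have hk1 : β * γ ^ 2 = 1 := (fixed_bit hF hk).resolve_left fun h => by
      have : (β * γ ^ 2) ^ 3 = 1 := by linear_combination (γ ^ 3) ^ 2 * hb + (γ ^ 3 + 1) * hc
      rw [h] at this; simp at this
    obtain rfl : γ = β := by linear_combination (-γ) * hk1 + β * hc
    refine ⟨?_, ?_, ?_, ?_⟩
    · linear_combination hb + h2
    · linear_combination γ * h2
    · linear_combination γ ^ 2 * h2
    · linear_combination hb + h2

/-- Elementary abelian subgroups of order at least `2^9`. -/
theorem nil_mul_eq_zero (B : Subgroup (SU 6 F 2)) (hcomm : ∀ u ∈ B, ∀ v ∈ B, u * v = v * u)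
    (hsq : ∀ u ∈ B, u * u = 1) (hcard : 2 ^ 9 ≤ Nat.card B) {b c : SU 6 F 2} (hb : b ∈ B) (hc : c ∈ B)
    (v : Fin 6 → F) : nil b (nil c v) = 0 := by
  classical
  have h2 := two_zero hF
  by_contra hv
  have sb := nil_sym hF (hsq b hb)
  have sc := nil_sym hF (hsq c hc)
  have bb := nil_nil hF (hsq b hb)
  have cc := nil_nil hF (hsq c hc)
  have bc := nil_comm hF (hcomm b hb c hc)
  have z0 : ∀ g : SU 6 F 2, nil g (0 : Fin 6 → F) = 0 := fun g => by rw [nil, smul_zero, add_zero]
  -- the first vector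
  obtain ⟨x, hx⟩ : ∃ x, herm 2 (nil b (nil c x)) x ≠ 0 := by
    by_contra h
    push Not at h
    exact hv (eq_zero_of_diag hF (fun x => nil b (nil c x)) (fun x y => by
      simp only [nil_add hF]) (fun a x => by simp only [nil_smul hF]) h v)
  set p := nil b x with hp
  set r := nil c x with hr
  set m := nil b r with hm
  have hmc : m = nil c p := bc x
  have hxm : herm 2 x m = 1 := by
    have e : herm 2 m x = herm 2 x m := by rw [hm, sb, sc, ← bc]
    have e2 : herm 2 x m ^ 2 = herm 2 x m := by rw [← herm_swap hF, e]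
    exact (fixed_bit hF e2).resolve_left fun h => hx (by rw [e, h])
  have hmx : herm 2 m x = 1 := by rw [herm_swap hF x m, hxm, one_pow]
  have hpm : herm 2 p m = 0 := by rw [hp, sb, hm, bb, herm_zero_right hF]
  have hrm : herm 2 r m = 0 := by rw [hr, sc, hmc, cc, herm_zero_right hF]
  have hmm : herm 2 m m = 0 := by rw [hm, sb, bb, herm_zero_right hF]
  have hpp : herm 2 p p = 0 := by rw [hp, sb, bb, herm_zero_right hF]
  have hrr : herm 2 r r = 0 := by rw [hr, sc, cc, herm_zero_right hF]
  have hpr : herm 2 p r = 1 := by rw [hp, sb, ← hm, hxm]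
  have hrp : herm 2 r p = 1 := by rw [herm_swap hF p r, hpr, one_pow]
  have hmp := (herm_eq_zero_comm hF).1 hpm
  have hmr := (herm_eq_zero_comm hF).1 hrm
  set e := herm 2 x x with he
  set β := herm 2 p x with hβ
  set γ := herm 2 r x with hγ
  -- the orthogonal plane
  let W : Set (Fin 6 → F) := {z | herm 2 z x = 0 ∧ herm 2 z p = 0 ∧ herm 2 z r = 0 ∧ herm 2 z m = 0}
  let P : (Fin 6 → F) → Fin 6 → F := fun w =>
    w - herm 2 w m • x - (herm 2 w r - herm 2 w m * herm 2 x r) • p -
      (herm 2 w p - herm 2 w m * herm 2 x p) • r -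
      (herm 2 w x - herm 2 w m * e - (herm 2 w r - herm 2 w m * herm 2 x r) * β -
        (herm 2 w p - herm 2 w m * herm 2 x p) * γ) • m
  have hP : ∀ w, P w ∈ W := fun w => by
    refine ⟨?_, ?_, ?_, ?_⟩ <;>
      simp only [P, herm_sub_left, herm_smul_left, hxm, hmx, hpm, hrm, hmm, hpp, hrr, hpr, hrp,
        hmp, hmr, ← he, ← hβ, ← hγ] <;> ring
  have hW0 : ∀ z ∈ W, herm 2 x z = 0 ∧ herm 2 p z = 0 ∧ herm 2 r z = 0 ∧ herm 2 m z = 0 :=
    fun z hz => ⟨(herm_eq_zero_comm hF).1 hz.1, (herm_eq_zero_comm hF).1 hz.2.1,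
      (herm_eq_zero_comm hF).1 hz.2.2.1, (herm_eq_zero_comm hF).1 hz.2.2.2⟩
  have hperp : ∀ z ∈ W, ∀ w, herm 2 z w = herm 2 z (P w) := fun z hz w => by
    obtain ⟨h1, h3, h4, h5⟩ := hz
    simp only [P, herm_sub_right hF, herm_smul_right hF, h1, h3, h4, h5]
    ring
  have hlin : ∀ (z : Fin 6 → F), z ∈ W → ∀ a : F, a • z ∈ W := fun z hz a => by
    obtain ⟨h1, h3, h4, h5⟩ := hz
    simp only [W, Set.mem_setOf_eq, herm_smul_left, h1, h3, h4, h5, mul_zero, and_self]
  have haddW : ∀ u ∈ W, ∀ w ∈ W, u + w ∈ W := fun u hu w hw => by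
    obtain ⟨h1, h3, h4, h5⟩ := hu
    obtain ⟨k1, k3, k4, k5⟩ := hw
    simp only [W, Set.mem_setOf_eq, herm_add_left, h1, h3, h4, h5, k1, k3, k4, k5, add_zero, and_self]
  have hfin : ∀ T : Finset (Fin 6 → F), T.card ≤ 5 →
      (∀ i, (eI i : Fin 6 → F) ∈ Submodule.span F (T : Set (Fin 6 → F))) → False := fun T hT hi => by
    have htop : Submodule.span F (T : Set (Fin 6 → F)) = ⊤ := by
      refine Submodule.eq_top_iff'.2 fun v => ?_
      rw [eq_sum_eI v]
      exact Submodule.sum_mem _ fun i _ => Submodule.smul_mem _ _ (hi i)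
    have hf := finrank_span_finset_le_card (R := F) T
    rw [Set.finrank, htop, finrank_top, Module.finrank_fin_fun] at hf
    omega
  obtain ⟨w₀, hw₀, hw₀0⟩ : ∃ z ∈ W, z ≠ 0 := by
    by_contra h
    push Not at h
    refine hfin {x, p, r, m} ?_ fun i => ?_
    · exact (Finset.card_insert_le _ _).trans (Nat.succ_le_succ Finset.card_le_three) |>.trans
        (by norm_num)
    set V := Submodule.span F (↑({x, p, r, m} : Finset (Fin 6 → F)) : Set (Fin 6 → F))
    have hV : ∀ q ∈ ({x, p, r, m} : Finset (Fin 6 → F)), q ∈ V := fun q hq =>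
      Submodule.subset_span hq
    have h1 : P (eI i) ∈ V := by rw [h _ (hP (eI i))]; exact zero_mem V
    have h' := add_mem (add_mem (add_mem (add_mem h1 (V.smul_mem
      (herm 2 (eI i : Fin 6 → F) x - herm 2 (eI i : Fin 6 → F) m * e -
        (herm 2 (eI i : Fin 6 → F) r - herm 2 (eI i : Fin 6 → F) m * herm 2 x r) * β -
        (herm 2 (eI i : Fin 6 → F) p - herm 2 (eI i : Fin 6 → F) m * herm 2 x p) * γ) (hV m (by simp))))
      (V.smul_mem (herm 2 (eI i : Fin 6 → F) p - herm 2 (eI i : Fin 6 → F) m * herm 2 x p) (hV r (by simp))))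
      (V.smul_mem (herm 2 (eI i : Fin 6 → F) r - herm 2 (eI i : Fin 6 → F) m * herm 2 x r) (hV p (by simp))))
      (V.smul_mem (herm 2 (eI i : Fin 6 → F) m) (hV x (by simp)))
    simpa [P] using h'
  obtain ⟨s, hsW, hss⟩ : ∃ z ∈ W, herm 2 z z = 1 := by
    by_contra h
    push Not at h
    have hiso : ∀ z ∈ W, herm 2 z z = 0 := fun z hz =>
      (fixed_bit hF (herm_diag hF z)).resolve_right (h z hz)
    refine hw₀0 (eq_zero_of_herm hF fun w => ?_)
    rw [hperp w₀ hw₀]
    obtain ⟨ω, hω, hω0⟩ := RecogB.CoverInvolution.exists_omega hF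
    set z := P w
    have e1 := hiso _ (haddW _ hw₀ _ (hP w))
    have e2 := hiso _ (haddW _ hw₀ _ (hlin _ (hP w) ω))
    simp only [herm_add_left, herm_add_right hF, herm_smul_left, herm_smul_right hF, hiso _ hw₀,
      hiso _ (hP w)] at e1 e2
    linear_combination (-1) * e2 + ω * e1 + herm 2 w₀ z * hω - ω * herm 2 w₀ z * h2
  obtain ⟨t, htW, hts, htt⟩ : ∃ z ∈ W, herm 2 z s = 0 ∧ herm 2 z z = 1 := by
    by_contra h
    push Not at h
    let P' : (Fin 6 → F) → Fin 6 → F := fun w => P w - herm 2 (P w) s • s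
    have hP' : ∀ w, P' w ∈ W := fun w => by
      obtain ⟨k1, k3, k4, k5⟩ := hP w
      obtain ⟨h1, h3, h4, h5⟩ := hsW
      simp only [W, P', Set.mem_setOf_eq, herm_sub_left, herm_smul_left, h1, h3, h4, h5, k1, k3, k4,
        k5, mul_zero, sub_zero, and_self]
    have hP's : ∀ w, herm 2 (P' w) s = 0 := fun w => by
      simp only [P', herm_sub_left, herm_smul_left, hss]; ring
    have hzero : ∀ w, P' w = 0 := by
      intro w
      set z := P' w with hz
      have hzz : herm 2 z z = 0 :=
        (fixed_bit hF (herm_diag hF z)).resolve_right (h z (hP' w) (hP's w))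
      refine eq_zero_of_herm hF fun u => ?_
      rw [hperp z (hP' w)]
      have e3 : P u = P' u + herm 2 (P u) s • s := by simp only [P', sub_add_cancel]
      rw [e3, herm_add_right hF, herm_smul_right hF, hP's w, mul_zero, add_zero]
      obtain ⟨ω, hω, hω0⟩ := RecogB.CoverInvolution.exists_omega hF
      have hiso : ∀ q, q ∈ W → herm 2 q s = 0 → herm 2 q q = 0 := fun q hq hqs =>
        (fixed_bit hF (herm_diag hF q)).resolve_right (h q hq hqs)
      have e1 := hiso _ (haddW _ (hP' w) _ (hP' u)) (by rw [herm_add_left, hP's, hP's, add_zero])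
      have e2 := hiso _ (haddW _ (hP' w) _ (hlin _ (hP' u) ω))
        (by rw [herm_add_left, herm_smul_left, hP's, hP's, mul_zero, add_zero])
      simp only [herm_add_left, herm_add_right hF, herm_smul_left, herm_smul_right hF,
        hiso _ (hP' w) (hP's w), hiso _ (hP' u) (hP's u)] at e1 e2
      linear_combination (-1) * e2 + ω * e1 + herm 2 z (P' u) * hω - ω * herm 2 z (P' u) * h2
    refine hfin {x, p, r, m, s} ?_ fun i => ?_
    · exact (Finset.card_insert_le _ _).trans (Nat.succ_le_succ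
        ((Finset.card_insert_le _ _).trans (Nat.succ_le_succ Finset.card_le_three)))
    ·
      set V := Submodule.span F (↑({x, p, r, m, s} : Finset (Fin 6 → F)) : Set (Fin 6 → F))
      have hV : ∀ q ∈ ({x, p, r, m, s} : Finset (Fin 6 → F)), q ∈ V := fun q hq =>
        Submodule.subset_span hq
      have h1 : P (eI i) ∈ V := by
        have := hzero (eI i)
        simp only [P', sub_eq_zero] at this
        rw [this]
        exact V.smul_mem _ (hV s (by simp))
      have h' := add_mem (add_mem (add_mem (add_mem h1 (V.smul_mem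
        (herm 2 (eI i : Fin 6 → F) x - herm 2 (eI i : Fin 6 → F) m * e -
          (herm 2 (eI i : Fin 6 → F) r - herm 2 (eI i : Fin 6 → F) m * herm 2 x r) * β -
          (herm 2 (eI i : Fin 6 → F) p - herm 2 (eI i : Fin 6 → F) m * herm 2 x p) * γ) (hV m (by simp))))
        (V.smul_mem (herm 2 (eI i : Fin 6 → F) p - herm 2 (eI i : Fin 6 → F) m * herm 2 x p) (hV r (by simp))))
        (V.smul_mem (herm 2 (eI i : Fin 6 → F) r - herm 2 (eI i : Fin 6 → F) m * herm 2 x r) (hV p (by simp))))
        (V.smul_mem (herm 2 (eI i : Fin 6 → F) m) (hV x (by simp)))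
      simpa [P] using h'
  have hst : herm 2 s t = 0 := (herm_eq_zero_comm hF).1 hts
  obtain ⟨xs, ps, rs, ms⟩ := hW0 s hsW
  obtain ⟨xt, pt, rt, mt⟩ := hW0 t htW
  obtain ⟨sx, sp, sr, sm⟩ := hsW
  obtain ⟨tx, tp, tr, tm⟩ := htW
  -- the six vectors form a basis
  let f : Fin 6 → Fin 6 → F := ![x, p, r, m, s, t]
  have hli : LinearIndependent F f := by
    rw [Fintype.linearIndependent_iff]
    intro a ha
    have ev : ∀ u, herm 2 (∑ i, a i • f i) u = 0 := fun u => by rw [ha, herm_zero_left]
    have em := ev m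
    have er := ev r
    have ep := ev p
    have ex := ev x
    have es := ev s
    have et := ev t
    simp only [Fin.sum_univ_six, f, Matrix.cons_val, Matrix.cons_val_zero, Matrix.cons_val_one,
      herm_add_left, herm_smul_left, hxm, hmx, hpm, hrm, hmm, hpp, hrr, hpr, hrp, hmp, hmr, ← he,
      ← hβ, ← hγ, xs, ps, rs, ms, xt, pt, rt, mt, sx, sp, sr, sm, tx, tp, tr, tm, hss, htt, hst,
      hts, mul_zero, mul_one, add_zero, zero_add] at em er ep ex es et
    simp only [em, zero_mul, zero_add] at er ep ex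
    simp only [er, ep, zero_mul, zero_add] at ex
    intro i
    fin_cases i <;> assumption
  have hspan : Submodule.span F (Set.range f) = ⊤ :=
    hli.span_eq_top_of_card_eq_finrank' (by simp)
  have hext : ∀ u : Fin 6 → F, (∀ i, herm 2 u (f i) = 0) → u = 0 := by
    intro u hu
    refine eq_zero_of_herm hF fun w => ?_
    have hw : w ∈ Submodule.span F (Set.range f) := hspan ▸ Submodule.mem_top
    induction hw using Submodule.span_induction with
    | mem y hy => obtain ⟨i, rfl⟩ := hy; exact hu i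
    | zero => exact herm_zero_right hF u
    | add y z _ _ hy hz => rw [herm_add_right hF, hy, hz, add_zero]
    | smul a y _ hy => rw [herm_smul_right hF, hy, mul_zero]
  have hexp : ∀ u : Fin 6 → F, u = herm 2 u m • x + (herm 2 u r - herm 2 u m * herm 2 x r) • p +
      (herm 2 u p - herm 2 u m * herm 2 x p) • r +
      (herm 2 u x - herm 2 u m * e - (herm 2 u r - herm 2 u m * herm 2 x r) * β -
        (herm 2 u p - herm 2 u m * herm 2 x p) * γ) • m +
      herm 2 u s • s + herm 2 u t • t := by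
    intro u
    refine sub_eq_zero.1 (hext _ fun i => ?_)
    fin_cases i <;>
      simp only [f, Matrix.cons_val, Matrix.cons_val_zero, Matrix.cons_val_one, herm_sub_left,
        herm_add_left, herm_smul_left, hxm, hmx, hpm, hrm, hmm, hpp, hrr, hpr, hrp, hmp, hmr, ← he,
        ← hβ, ← hγ, xs, ps, rs, ms, xt, pt, rt, mt, sx, sp, sr, sm, tx, tp, tr, tm, hss, htt, hst,
        hts, Fin.zero_eta, Fin.mk_one, Fin.reduceFinMk] <;> ring
  -- values of an element
  have hdiag : ∀ d ∈ B, ∀ u, herm 2 (nil d u) u ^ 2 = herm 2 (nil d u) u := fun d hd u => by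
    rw [← herm_swap hF, nil_sym hF (hsq d hd)]
  have htwist : ∀ d ∈ B, ∀ u w, herm 2 (nil d u) w = herm 2 (nil d w) u ^ 2 := fun d hd u w => by
    rw [← herm_swap hF, nil_sym hF (hsq d hd)]
  have hbm : nil b m = 0 := by rw [hm, bb]
  have hcm : nil c m = 0 := by rw [hmc, cc]
  have hbp : nil b p = 0 := by rw [hp, bb]
  have hcr : nil c r = 0 := by rw [hr, cc]
  have hbW : ∀ {g : SU 6 F 2}, g = b ∨ g = c → ∀ z, z = s ∨ z = t →
      nil g z = herm 2 (nil g z) s • s + herm 2 (nil g z) t • t := by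
    intro g hg z hz
    have hz0 : herm 2 z p = 0 ∧ herm 2 z r = 0 ∧ herm 2 z m = 0 := by
      rcases hz with h | h <;> rw [h]
      exacts [⟨sp, sr, sm⟩, ⟨tp, tr, tm⟩]
    have hzz := herm_zero_right hF z
    have e1 : herm 2 (nil g z) x = 0 ∧ herm 2 (nil g z) p = 0 ∧ herm 2 (nil g z) r = 0 ∧
        herm 2 (nil g z) m = 0 := by
      rcases hg with h | h <;> rw [h]
      · exact ⟨by rw [sb, ← hp, hz0.1], by rw [sb, hbp, hzz], by rw [sb, ← hm, hz0.2.2],
          by rw [sb, hbm, hzz]⟩
      · exact ⟨by rw [sc, ← hr, hz0.2.1], by rw [sc, ← hmc, hz0.2.2], by rw [sc, hcr, hzz],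
          by rw [sc, hcm, hzz]⟩
    obtain ⟨k1, k2, k3, k4⟩ := e1
    conv_lhs => rw [hexp (nil g z)]
    simp [k1, k2, k3, k4]
  have hnz : nil b (nil c s) = 0 ∧ nil b (nil c t) = 0 := by
    have b1 := hbW (Or.inl rfl) s (Or.inl rfl)
    have b2 := hbW (Or.inl rfl) t (Or.inr rfl)
    have c1 := hbW (Or.inr rfl) s (Or.inl rfl)
    have c2 := hbW (Or.inr rfl) t (Or.inr rfl)
    have bts : herm 2 (nil b t) s = herm 2 (nil b s) t ^ 2 := htwist b hb t s
    have cts : herm 2 (nil c t) s = herm 2 (nil c s) t ^ 2 := htwist c hc t s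
    rw [bts] at b2
    rw [cts] at c2
    have ea := hdiag b hb s
    have ea' := hdiag b hb t
    have ee := hdiag c hc s
    have ee' := hdiag c hc t
    set a := herm 2 (nil b s) s
    set a' := herm 2 (nil b t) t
    set β' := herm 2 (nil b s) t
    set q := herm 2 (nil c s) s
    set q' := herm 2 (nil c t) t
    set γ' := herm 2 (nil c s) t
    have q1 : herm 2 (nil b s) (nil b s) = 0 := by rw [sb, bb, herm_zero_right hF]
    have q2 : herm 2 (nil b t) (nil b t) = 0 := by rw [sb, bb, herm_zero_right hF]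
    have q3 : herm 2 (nil c s) (nil c s) = 0 := by rw [sc, cc, herm_zero_right hF]
    have q4 : herm 2 (nil c t) (nil c t) = 0 := by rw [sc, cc, herm_zero_right hF]
    have q5 : herm 2 (nil b s) (nil c s) = herm 2 (nil c s) (nil b s) := by
      rw [sb, bc, ← sc]
    rw [b1, c1] at q5
    rw [b1] at q1
    rw [b2] at q2
    rw [c1] at q3
    rw [c2] at q4
    simp only [herm_add_left, herm_add_right hF, herm_smul_left, herm_smul_right hF, hss, htt, hst,
      hts, mul_zero, mul_one, add_zero, zero_add, sq_sq hF] at q1 q2 q3 q4 q5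
    obtain ⟨r1, r2, r3, r4⟩ := plane_product hF (β := β') (γ := γ') ea ea' ee ee'
      (by linear_combination q1) (by linear_combination q2) (by linear_combination q3)
      (by linear_combination q4) (by linear_combination q5 - a * ee + q * ea)
    have hβ4 := pow_four hF β'
    have hγ4 := pow_four hF γ'
    constructor
    · rw [c1, nil_add hF, nil_smul hF, nil_smul hF, b1, b2]
      have k1 : q * a + γ' * β' ^ 2 = 0 := by linear_combination r1 - q5 + a * ee - q * ea
      have k2 : q * β' + γ' * a' = 0 := by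
        linear_combination (β' ^ 2 * q + a' * γ' ^ 2) * r3 - q ^ 2 * hβ4 - β' * ee - γ' ^ 4 * ea' -
          a' * hγ4 - (β' ^ 2 * q * a' * γ' ^ 2) * h2
      funext i
      simp only [Pi.add_apply, Pi.smul_apply, smul_eq_mul, Pi.zero_apply]
      linear_combination s i * k1 + t i * k2
    · rw [c2, nil_add hF, nil_smul hF, nil_smul hF, b1, b2]
      have k1 : γ' ^ 2 * a + q' * β' ^ 2 = 0 := by
        linear_combination (a * γ' + β' * q') * r2 - γ' ^ 2 * ea - β' ^ 2 * ee' -
          (a * γ' * β' * q') * h2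
      have k2 : γ' ^ 2 * β' + q' * a' = 0 := by
        linear_combination (β' ^ 2 * γ' + a' * q') * r4 - γ' ^ 2 * hβ4 - q' ^ 2 * ea' - a' * ee' -
          (β' ^ 2 * γ' * a' * q') * h2
      funext i
      simp only [Pi.add_apply, Pi.smul_apply, smul_eq_mul, Pi.zero_apply]
      linear_combination s i * k1 + t i * k2
  obtain ⟨hns, hnt⟩ := hnz
  have hnp : nil b (nil c p) = 0 := by rw [← hmc, hbm]
  have hnr : nil b (nil c r) = 0 := by rw [hr, cc, z0]
  have hnm : nil b (nil c m) = 0 := by rw [hmc, cc, z0]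
  -- each element is determined by few values
  have hA : ∀ d ∈ B, herm 2 (nil d x) m = 0 := by
    intro d hd
    have sd := nil_sym hF (hsq d hd)
    set y := nil d x with hy
    have hny : nil b (nil c y) = herm 2 y m • m := by
      conv_lhs => rw [hexp y]
      simp only [nil_add hF, nil_smul hF, hnp, hnr, hnm, hns, hnt, ← hr, ← hm, smul_zero, add_zero]
    have h0 : herm 2 y (nil b (nil c y)) = 0 := by
      rw [hy, ← nil_comm hF (hcomm d hd c hc), ← nil_comm hF (hcomm d hd b hb), sd,
        nil_nil hF (hsq d hd), herm_zero_right hF]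
    rw [hny, herm_smul_right hF] at h0
    exact eq_zero_of_pow_eq_zero (n := 3) (by linear_combination h0)
  let key : B → (F × F × F) × (F × F) × (F × F × F) := fun d =>
    ((herm 2 (nil d.1 x) r, herm 2 (nil d.1 x) p, herm 2 (nil d.1 x) x),
      (herm 2 (nil d.1 x) s, herm 2 (nil d.1 x) t),
      (herm 2 (nil d.1 s) s, herm 2 (nil d.1 t) t, herm 2 (nil d.1 s) t))
  have hkey : Function.Injective key := by
    intro d d' h
    simp only [key, Prod.mk.injEq] at h
    obtain ⟨⟨h1, h3, h4⟩, ⟨h5, h6⟩, h7, h8, h9⟩ := h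
    have gy : nil d.1 x = nil d'.1 x := by
      rw [hexp (nil d.1 x), hexp (nil d'.1 x), hA d.1 d.2, hA d'.1 d'.2, h1, h3, h4, h5, h6]
    have gp : nil d.1 p = nil d'.1 p := by
      rw [hp, nil_comm hF (hcomm d.1 d.2 b hb), nil_comm hF (hcomm d'.1 d'.2 b hb), gy]
    have gr : nil d.1 r = nil d'.1 r := by
      rw [hr, nil_comm hF (hcomm d.1 d.2 c hc), nil_comm hF (hcomm d'.1 d'.2 c hc), gy]
    have gm : nil d.1 m = nil d'.1 m := by
      rw [hm, nil_comm hF (hcomm d.1 d.2 b hb), nil_comm hF (hcomm d'.1 d'.2 b hb), gr]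
    have gz : ∀ z u, nil d.1 u = nil d'.1 u → herm 2 (nil d.1 z) u = herm 2 (nil d'.1 z) u :=
      fun z u h => by rw [nil_sym hF (hsq _ d.2), nil_sym hF (hsq _ d'.2), h]
    have gts : herm 2 (nil d.1 t) s = herm 2 (nil d'.1 t) s := by
      rw [htwist _ d.2 t s, htwist _ d'.2 t s, h9]
    have gs : nil d.1 s = nil d'.1 s := by
      rw [hexp (nil d.1 s), hexp (nil d'.1 s), gz s x gy, gz s p gp, gz s r gr, gz s m gm, h7, h9]
    have gt : nil d.1 t = nil d'.1 t := by
      rw [hexp (nil d.1 t), hexp (nil d'.1 t), gz t x gy, gz t p gp, gz t r gr, gz t m gm, gts, h8]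
    refine Subtype.ext (eq_of_smul_eq_SU fun w => ?_)
    have hw : w ∈ Submodule.span F (Set.range f) := hspan ▸ Submodule.mem_top
    have : nil d.1 w = nil d'.1 w := by
      induction hw using Submodule.span_induction with
      | mem y hy => obtain ⟨i, rfl⟩ := hy; fin_cases i <;> assumption
      | zero => rw [z0, z0]
      | add y z _ _ hy hz => rw [nil_add hF, nil_add hF, hy, hz]
      | smul a y _ hy => rw [nil_smul hF, nil_smul hF, hy]
    exact add_right_cancel this
  -- the possible values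
  set S2 : Finset F := {0, 1}
  have hS2 : ∀ {a : F}, a ^ 2 = a → a ∈ S2 := fun h => by
    rcases fixed_bit hF h with rfl | rfl <;> simp [S2]
  set W2 : Finset (F × F) := Finset.univ.image fun d : B => (key d).2.1
  set T : Finset ((F × F × F) × (F × F) × (F × F × F)) :=
    ((S2 ×ˢ S2 ×ˢ S2) ×ˢ W2 ×ˢ (S2 ×ˢ S2 ×ˢ Finset.univ)).erase ((0, 0, 0), (0, 0), (1, 1, 0))
  have hbit : ∀ d ∈ B, ∀ g ∈ B, herm 2 (nil d x) (nil g x) ^ 2 = herm 2 (nil d x) (nil g x) :=
    fun d hd g hg => by
      rw [← herm_swap hF, nil_sym hF (hsq g hg), nil_comm hF (hcomm g hg d hd),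
        ← nil_sym hF (hsq d hd)]
  have himg : ∀ d : B, key d ∈ T := by
    intro d
    refine Finset.mem_erase.2 ⟨fun h => ?_, ?_⟩
    · simp only [key, Prod.mk.injEq] at h
      obtain ⟨⟨h1, h3, h4⟩, ⟨h5, h6⟩, h7, h8, h9⟩ := h
      have gy : nil d.1 x = 0 := by
        rw [hexp (nil d.1 x), hA d.1 d.2, h1, h3, h4, h5, h6]; simp
      have sd := nil_sym hF (hsq _ d.2)
      have gu : ∀ u, nil d.1 u = 0 → herm 2 (nil d.1 s) u = 0 := fun u h => by
        rw [sd, h, herm_zero_right hF]
      have gp : nil d.1 p = 0 := by rw [hp, nil_comm hF (hcomm d.1 d.2 b hb), gy, z0]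
      have gr : nil d.1 r = 0 := by rw [hr, nil_comm hF (hcomm d.1 d.2 c hc), gy, z0]
      have gm : nil d.1 m = 0 := by rw [hm, nil_comm hF (hcomm d.1 d.2 b hb), gr, z0]
      have gs : nil d.1 s = s := by
        rw [hexp (nil d.1 s), gu x gy, gu p gp, gu r gr, gu m gm, h7, h9]; simp
      have := nil_nil hF (hsq _ d.2) s
      rw [gs, gs] at this
      rw [this, herm_zero_left] at hss
      exact zero_ne_one hss
    · simp only [Finset.mem_product, key]
      exact ⟨⟨hS2 (hbit d.1 d.2 c hc), hS2 (hbit d.1 d.2 b hb), hS2 (hdiag _ d.2 x)⟩,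
        Finset.mem_image.2 ⟨d, Finset.mem_univ _, rfl⟩, hS2 (hdiag _ d.2 s), hS2 (hdiag _ d.2 t),
        Finset.mem_univ _⟩
  have hW2 : W2.card ≤ 4 := by
    set s4 : Finset (Fin 4 × Fin 4) :=
      Finset.univ.filter fun q => (val hF q.1, val hF q.2) ∈ W2
    have hcard4 : W2.card ≤ s4.card := by
      refine Finset.card_le_card_of_surjOn (fun q => (val hF q.1, val hF q.2)) ?_
      rintro ⟨u, w⟩ hw
      obtain ⟨i, rfl⟩ := exists_val hF u
      obtain ⟨j, rfl⟩ := exists_val hF w
      exact ⟨(i, j), by simpa [s4] using hw, rfl⟩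
    have hy : ∀ d : B, nil d.1 x = herm 2 (nil d.1 x) r • p + herm 2 (nil d.1 x) p • r +
        (herm 2 (nil d.1 x) x - herm 2 (nil d.1 x) r * β - herm 2 (nil d.1 x) p * γ) • m +
        herm 2 (nil d.1 x) s • s + herm 2 (nil d.1 x) t • t := by
      intro d
      conv_lhs => rw [hexp (nil d.1 x), hA d.1 d.2]
      simp
    refine hcard4.trans (isoPairs_clique s4 ?_ ?_)
    · intro q hq
      simp only [s4, W2, Finset.mem_filter, Finset.mem_univ, true_and, Finset.mem_image, key,
        Prod.mk.injEq] at hq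
      obtain ⟨d, hs', ht'⟩ := hq
      refine val_injective hF ?_
      rw [val_mul, val_mul, val_sq, val_sq, ← hs', ← ht']
      have h0 : herm 2 (nil d.1 x) (nil d.1 x) = 0 := by
        rw [nil_sym hF (hsq _ d.2), nil_nil hF (hsq _ d.2), herm_zero_right hF]
      have e1 := hbit d.1 d.2 c hc
      have e2 := hbit d.1 d.2 b hb
      rw [hy d] at h0
      simp only [herm_add_left, herm_add_right hF, herm_smul_left, herm_smul_right hF, hpm, hrm,
        hmm, hpp, hrr, hpr, hrp, hmp, hmr, ps, rs, ms, pt, rt, mt, sp, sr, sm, tp, tr, tm, hss,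
        htt, hst, hts, mul_zero, mul_one, add_zero, zero_add] at h0
      set u := herm 2 (nil d.1 x) r
      set w := herm 2 (nil d.1 x) p
      set k := herm 2 (nil d.1 x) t
      linear_combination h0 - u * w * h2 - u * e2 - w * e1 - k ^ 3 * h2
    · intro q hq q' hq'
      simp only [s4, W2, Finset.mem_filter, Finset.mem_univ, true_and, Finset.mem_image, key,
        Prod.mk.injEq] at hq hq'
      obtain ⟨d, hs', ht'⟩ := hq
      obtain ⟨d', hs'', ht''⟩ := hq'
      have h0 := hbit d.1 d.2 d'.1 d'.2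
      rw [hy d, hy d'] at h0
      simp only [herm_add_left, herm_add_right hF, herm_smul_left, herm_smul_right hF, hpm, hrm,
        hmm, hpp, hrr, hpr, hrp, hmp, hmr, ps, rs, ms, pt, rt, mt, sp, sr, sm, tp, tr, tm, hss,
        htt, hst, hts, mul_zero, mul_one, add_zero, zero_add, hs', ht', hs'', ht''] at h0
      have e1 : herm 2 (nil d.1 x) r ^ 2 = herm 2 (nil d.1 x) r := hbit d.1 d.2 c hc
      have e2 : herm 2 (nil d.1 x) p ^ 2 = herm 2 (nil d.1 x) p := hbit d.1 d.2 b hb
      have e3 : herm 2 (nil d'.1 x) r ^ 2 = herm 2 (nil d'.1 x) r := hbit d'.1 d'.2 c hc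
      have e4 : herm 2 (nil d'.1 x) p ^ 2 = herm 2 (nil d'.1 x) p := hbit d'.1 d'.2 b hb
      set u := herm 2 (nil d.1 x) r
      set w := herm 2 (nil d.1 x) p
      set u' := herm 2 (nil d'.1 x) r
      set w' := herm 2 (nil d'.1 x) p
      rw [e3, e4] at h0
      set n := fadd (fmul q.1 (fsq q'.1)) (fmul q.2 (fsq q'.2))
      have hn : val hF n = val hF q.1 * val hF q'.1 ^ 2 + val hF q.2 * val hF q'.2 ^ 2 := by
        simp only [n, val_add, val_mul, val_sq]
      have hk : (u * w' + w * u') ^ 2 = u * w' + w * u' := by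
        linear_combination (w' ^ 2) * e1 + u * e4 + (u' ^ 2) * e2 + w * e3 + u * w' * w * u' * h2
      have hn2 : val hF (fsq n) = val hF n := by
        rw [val_sq, hn]
        set Z := val hF q.1 * val hF q'.1 ^ 2 + val hF q.2 * val hF q'.2 ^ 2
        linear_combination h0 - hk - (u * w' + w * u') * Z * h2
      exact fixed_le_one n (val_injective hF hn2)
  have hT : T.card < 2 ^ 9 := by
    have hS2c : S2.card ≤ 2 := Finset.card_le_two
    have hmem : (((0 : F), (0 : F), (0 : F)), ((0 : F), (0 : F)), ((1 : F), (1 : F), (0 : F))) ∈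
        (S2 ×ˢ S2 ×ˢ S2) ×ˢ W2 ×ˢ (S2 ×ˢ S2 ×ˢ Finset.univ) := by
      simp only [Finset.mem_product, W2, Finset.mem_image, key]
      refine ⟨by simp [S2], ⟨1, Finset.mem_univ _, ?_⟩, by simp [S2]⟩
      simp [nil, vec_add_self hF, herm_zero_left]
    refine (Finset.card_erase_lt_of_mem hmem).trans_le ?_
    simp only [Finset.card_product, Finset.card_univ, hF]
    calc S2.card * (S2.card * S2.card) * (W2.card * (S2.card * (S2.card * 2 ^ 2)))
        ≤ 2 * (2 * 2) * (4 * (2 * (2 * 2 ^ 2))) := by gcongr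
      _ = 2 ^ 9 := by norm_num
  have := Finset.card_le_card_of_injOn key (s := (Finset.univ : Finset B)) (t := T)
    (fun d _ => himg d) hkey.injOn
  rw [Finset.card_univ, ← Nat.card_eq_fintype_card] at this
  omega

end Cfsg.Agent.U6Thompson
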