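import Cfsg.Agent.U6Thompson.Radical

/-!
The three classes of nontrivial elements of the radical under its normaliser.
-/

set_option autoImplicit false
set_option linter.unusedSectionVars false
set_option synthInstance.maxSize 4000
set_option maxRecDepth 8000

namespace Cfsg.Agent.U6Thompson

open Cfsg.Agent.Unitary Cfsg.Agent.RecogB

/-- Coordinates from a matrix. -/
def mkPar (m : Fin 3 → Fin 3 → Fin 4) : Par :=
  (if m 0 0 = 0 then 0 else 1, if m 1 1 = 0 then 0 else 1, if m 2 2 = 0 then 0 else 1,
    m 0 1, m 0 2, m 1 2)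

theorem mkPar_mat : ∀ p : Par, mkPar (mat p) = p := by decide +kernel

/-- The effect of an elementary change of frame on a matrix. -/
def stepMat (i j : Fin 3) (s : Fin 4) (m : Fin 3 → Fin 3 → Fin 4) (k l : Fin 3) : Fin 4 :=
  fadd (fadd (fadd (m k l) (if k = i then fmul s (m j l) else 0))
    (if l = i then fmul (fsq s) (m k j) else 0))
    (if k = i ∧ l = i then fmul (fmul s (fsq s)) (m j j) else 0)

/-- The pairs of distinct indices. -/
def pairTab : Fin 6 → Fin 3 × Fin 3 := ![(0, 1), (0, 2), (1, 0), (1, 2), (2, 0), (2, 1)]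

theorem pairTab_ne : ∀ t, (pairTab t).1 ≠ (pairTab t).2 := by decide

/-- The index of a tuple of coordinates. -/
def code (p : Par) : ℕ :=
  p.1.val + 2 * p.2.1.val + 4 * p.2.2.1.val + 8 * p.2.2.2.1.val + 32 * p.2.2.2.2.1.val +
    128 * p.2.2.2.2.2.val

/-- The generator used at a tuple of coordinates. -/
def gen (p : Par) : ℕ := 0x301681822a64407244c96c1ab2c1a08180b841a9741cb241c638966808ef6c448845f181c4b841ca40566285096418b1c1896bc2783e2f8202b8418a5b8eb238ee5b10b1b10c5b4cb2b4cd84165815e5405462050b6c5aa2c5a6740278c1f08a02a8c5ab30148281e96bc071bccb745ca245c08980a8c5c96458a1c58638946888f073c488be0f89c4a8c589530ea1b0ec5350a2b50d538ca238ce8c544891e46bda92bdab38926788f1640487c23079c497bdaa405261850a73dc923dca644277c6117a0297bdcb301282020b740072c0ca63d891bd80798097bd8b4b4e92b4ed4b9092390e4b0c91b0cc7bd2378e03289e5489ef28625506312820558210695ab6b16b20a0458a10205e4485ef2022450231711ca7314a18a2350a311860358610181e3481ef60d8963529188e6388e61850640506180c7300c700d2300000 >>> (5 * code p) % 32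

/-- The number of steps to a representative. -/
def dist (p : Par) : ℕ := 0x33333333333333332222322422232224222232243333333333333333222322243333333322223224333333332223222422222223222222232222222313131324333333332222322433333333222322243333333333333333222232242223222422223224333333333333333322232224222222232222222322222223131313242222322433333333333333332223222433333333222232243333333322232224333333333333333322223224222322242222222322222223222222231313132422222223222222232222222311131234222222232222222322222223111312342222222322222223222222231113123431121112311211123112111202220200 >>> (4 * code p) % 16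

/-- The class of a tuple of coordinates. -/
def cls (p : Par) : ℕ := 0xa996a9961669a9691669a996a996a969a9961669a996a969a699a699a6994999a9961669a996a969a996a9961669a9691669a996a996a969a699a699a69949991669a996a996a969a9961669a996a969a996a9961669a969a699a699a69949999aa59aa59aa561a59aa59aa59aa561a59aa59aa59aa561a56a156a156a159440 >>> (2 * code p) % 4

/-- One step towards the representative. -/
def step (p : Par) : Par :=
  mkPar (stepMat (pairTab (Fin.ofNat 6 (gen p / 3))).1 (pairTab (Fin.ofNat 6 (gen p / 3))).2
    (Fin.ofNat 4 (gen p % 3 + 1)) (mat p))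

/-- The representatives. -/
def rep : ℕ → Par
  | 0 => (1, 0, 0, 0, 0, 0)
  | 1 => (1, 1, 0, 0, 0, 0)
  | _ => (1, 1, 1, 0, 0, 0)

theorem step_check : ∀ p : Par, p = (0, 0, 0, 0, 0, 0) ∨ p = rep (cls p) ∨
    (dist (step p) < dist p ∧ cls (step p) = cls p ∧ step p ≠ (0, 0, 0, 0, 0, 0)) := by
  decide +kernel

theorem cls_card : ∀ r : Fin 3,
    (Finset.univ.filter fun p : Par => p ≠ (0, 0, 0, 0, 0, 0) ∧ cls p = r.val).card =
      (![21, 210, 280] : Fin 3 → ℕ) r := by
  decide +kernel

theorem cls_lt : ∀ p : Par, cls p < 3 := by decide +kernel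

variable {F : Type*} [Field F] [Fintype F] (hF : Fintype.card F = 2 ^ 2)

include hF

/-- An elementary change of frame. -/
noncomputable def lev {i j : Fin 3} (hij : i ≠ j) (s : F) : SU 6 F 2 :=
  Qel hF (u := av i) (w := s • fv hF j) (b := 0) (herm_av_av hF i i)
    (by rw [herm_smul_left, herm_fv_av hF, if_neg (Ne.symm hij), mul_zero])
    (zero_cond hF _ (by
      rw [herm_smul_left, herm_smul_right hF, herm_fv_fv hF, mul_zero, mul_zero]))

variable {i j : Fin 3} (hij : i ≠ j) (s : F)

theorem lev_av (k : Fin 3) : lev hF hij s • (av k : Fin 6 → F) =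
    av k + (if k = j then s ^ 2 else 0) • av i := by
  rw [lev, Qel_smul, herm_smul_right hF, herm_av_av hF, herm_av_fv hF]
  have hn : ∀ v : Fin 6 → F, -v = v := fun v => neg_eq_of_add_eq_zero_left (vec_add_self hF v)
  by_cases h : k = j <;> simp [h, hn, sub_eq_add_neg]

theorem lev_fv (k : Fin 3) : lev hF hij s • fv hF k =
    fv hF k + (if k = i then s else 0) • fv hF j := by
  rw [lev, Qel_smul, herm_smul_right hF, herm_fv_fv hF, herm_fv_av hF]
  by_cases h : k = i <;> simp [h]

theorem lev_sq : lev hF hij s * lev hF hij s = 1 := by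
  refine eq_of_smul_eq_SU fun x => ?_
  rw [expand hF x]
  simp only [mul_smul, one_smul, Finset.smul_sum, smul_add]
  refine Finset.sum_congr rfl fun k _ => ?_
  simp only [smul_comm (lev hF hij s), lev_av, lev_fv, smul_add, smul_smul,
    if_neg hij, if_neg (Ne.symm hij), mul_zero, zero_smul, add_zero, add_assoc, vec_add_self hF]

theorem lev_conj_mem {g : SU 6 F 2} (hg : g ∈ E) :
    lev hF hij s * g * lev hF hij s ∈ E := by
  refine mem_E.2 fun k => ?_
  have hmem : lev hF hij s • (av k : Fin 6 → F) ∈ LA := by
    rw [lev_av]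
    exact add_mem (av_mem _) (Submodule.smul_mem _ _ (av_mem _))
  rw [mul_smul, mul_smul, fix_LA hF hg hmem, ← mul_smul, lev_sq, one_smul]

theorem lev_key (g : SU 6 F 2) (k l : Fin 3) :
    key hF (lev hF hij s * g * lev hF hij s) k l = key hF g k l +
      (if k = i then s * key hF g j l else 0) + (if l = i then s ^ 2 * key hF g k j else 0) +
      (if k = i ∧ l = i then s * s ^ 2 * key hF g j j else 0) := by
  set n := lev hF hij s with hn
  have h1 : nil (n * g * n) (fv hF k) = n • nil g (n • fv hF k) := by
    rw [nil, nil, smul_add, ← mul_smul n n, hn, lev_sq, one_smul, mul_smul, mul_smul]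
  have h2 : herm 2 (n • nil g (n • fv hF k)) (fv hF l) =
      herm 2 (nil g (n • fv hF k)) (n • fv hF l) := by
    conv_lhs => rw [show fv hF l = n • n • fv hF l by rw [← mul_smul, hn, lev_sq, one_smul]]
    exact herm_smul_SU n _ _
  rw [key, h1, h2, hn, lev_fv, lev_fv, nil_add hF, nil_smul hF]
  simp only [key, herm_add_left, herm_add_right hF, herm_smul_left, herm_smul_right hF]
  by_cases ha : k = i <;> by_cases hb : l = i <;> simp [ha, hb] <;> ring

theorem conj_step (p : Par) (s : Fin 4) :
    lev hF hij (val hF s) * elt hF p * lev hF hij (val hF s) =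
      elt hF (mkPar (stepMat i j s (mat p))) := by
  obtain ⟨q, hq⟩ := exists_elt hF (lev_conj_mem hF hij (val hF s) (elt_mem hF p))
  have h0 : val hF 0 = 0 := by simp [val]
  have : mat q = stepMat i j s (mat p) := by
    funext k l
    refine val_injective hF ?_
    rw [← elt_key, hq, lev_key, elt_key, elt_key, elt_key, elt_key, stepMat, val_add, val_add,
      val_add]
    simp only [apply_ite (val hF), val_mul, val_sq, h0]
  rw [← this, mkPar_mat, hq]

omit hij s

theorem elt_zero : elt hF (0, 0, 0, 0, 0, 0) = 1 := by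
  refine key_injective hF (elt_mem hF _) (one_mem _) fun k l => ?_
  rw [elt_key, key_one]
  fin_cases k <;> fin_cases l <;> simp [mat, fsq, val]

theorem elt_ne_one {p : Par} (hp : p ≠ (0, 0, 0, 0, 0, 0)) : elt hF p ≠ 1 := fun h =>
  hp (elt_injective hF (h.trans (elt_zero hF).symm))

theorem elt_add (p q : Par) :
    elt hF p * elt hF q = elt hF (mkPar fun k l => fadd (mat p k l) (mat q k l)) := by
  obtain ⟨r, hr⟩ := exists_elt hF (mul_mem (elt_mem hF p) (elt_mem hF q))
  have : mat r = fun k l => fadd (mat p k l) (mat q k l) := by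
    funext k l
    refine val_injective hF ?_
    rw [← elt_key, hr, key_mul hF (elt_mem hF _) (elt_mem hF _), elt_key, elt_key, val_add]
  rw [← this, mkPar_mat, hr]

/-- Every nontrivial element is conjugate to the representative of its class. -/
theorem conj_rep (p : Par) (hp : p ≠ (0, 0, 0, 0, 0, 0)) :
    ∃ n : SU 6 F 2, n * elt hF p * n⁻¹ = elt hF (rep (cls p)) := by
  induction hd : dist p using Nat.strong_induction_on generalizing p with
  | _ d ih =>
    rcases step_check p with h | h | ⟨h1, h2, h3⟩
    · exact absurd h hp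
    · exact ⟨1, by rw [← h]; group⟩
    · obtain ⟨n, hn⟩ := ih _ (hd ▸ h1) (step p) h3 rfl
      rw [h2, step, ← conj_step hF (pairTab_ne _)] at hn
      refine ⟨n * lev hF (pairTab_ne (Fin.ofNat 6 (gen p / 3))) (val hF (Fin.ofNat 4 (gen p % 3 + 1))), ?_⟩
      rw [← hn, mul_inv_rev, inv_eq_of_mul_eq_one_right (lev_sq hF _ _)]
      group

/-- Representatives of the first two classes are squares. -/
theorem rep_square (r : ℕ) (hr : r < 2) : ∃ (y : SU 6 F 2) (p : Par),
    p ≠ (0, 0, 0, 0, 0, 0) ∧ cls p = r ∧ y * y = elt hF p := by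
  have key : ∀ q : Par, ∀ y, y = elt hF q * lev hF (show (0 : Fin 3) ≠ 1 by decide) (val hF 1) →
      y * y = elt hF (mkPar fun k l => fadd (mat q k l) (mat (mkPar (stepMat 0 1 1 (mat q))) k l)) := by
    rintro q _ rfl
    rw [← elt_add, ← conj_step hF (show (0 : Fin 3) ≠ 1 by decide) q 1]
    group
  interval_cases r
  · exact ⟨_, _, by decide, by decide +kernel, key (0, 0, 0, 2, 0, 0) _ rfl⟩
  · exact ⟨_, _, by decide, by decide +kernel, key (0, 1, 0, 0, 0, 0) _ rfl⟩

end Cfsg.Agent.U6Thompson
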