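import Cfsg.Agent.U6Thompson.Large

/-!
The abelian subgroup of order `2^9` of `SU₆(2)`: the pointwise stabiliser of a maximal totally
isotropic subspace, with coordinates in Hermitian matrices of size three.
-/

set_option autoImplicit false
set_option linter.unusedSectionVars false

namespace Cfsg.Agent.U6Thompson

open Cfsg.Agent.Unitary Cfsg.Agent.RecogB

variable {F : Type*} [Field F] [Fintype F] (hF : Fintype.card F = 2 ^ 2)

/-- The isotropic frame. -/
def av : Fin 3 → Fin 6 → F := ![eI 0 + eI 1, eI 2 + eI 3, eI 4 + eI 5]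

/-- The stabiliser of the isotropic frame. -/
def E : Subgroup (SU 6 F 2) := ⨅ i, MulAction.stabilizer (SU 6 F 2) (av i : Fin 6 → F)

/-- The span of the isotropic frame. -/
def LA : Submodule F (Fin 6 → F) := Submodule.span F (Set.range av)

theorem mem_E {g : SU 6 F 2} : g ∈ (E : Subgroup (SU 6 F 2)) ↔ ∀ i, g • (av i : Fin 6 → F) = av i := by
  simp [E, Subgroup.mem_iInf, MulAction.mem_stabilizer_iff]

theorem av_mem (i : Fin 3) : (av i : Fin 6 → F) ∈ LA := Submodule.subset_span ⟨i, rfl⟩

/-- Coordinates. -/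
abbrev Par : Type := Fin 2 × Fin 2 × Fin 2 × Fin 4 × Fin 4 × Fin 4

/-- The Hermitian matrix of coordinates. -/
def mat (p : Par) : Fin 3 → Fin 3 → Fin 4 :=
  ![![Fin.castLE (by norm_num) p.1, p.2.2.2.1, p.2.2.2.2.1],
    ![fsq p.2.2.2.1, Fin.castLE (by norm_num) p.2.1, p.2.2.2.2.2],
    ![fsq p.2.2.2.2.1, fsq p.2.2.2.2.2, Fin.castLE (by norm_num) p.2.2.1]]

theorem mat_injective : Function.Injective mat := by
  intro p p' h
  obtain ⟨a, b, c, x, y, z⟩ := p
  obtain ⟨a', b', c', x', y', z'⟩ := p'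
  have e := fun i j => congrFun (congrFun h i) j
  have e1 := e 0 0; have e2 := e 1 1; have e3 := e 2 2
  have e4 := e 0 1; have e5 := e 0 2; have e6 := e 1 2
  simp [mat] at e1 e2 e3 e4 e5 e6
  simp [e1, e2, e3, e4, e5, e6]

include hF

/-- The dual frame. -/
noncomputable def fv : Fin 3 → Fin 6 → F :=
  ![val hF 2 • eI 0 + val hF 2 ^ 2 • eI 1, val hF 2 • eI 2 + val hF 2 ^ 2 • eI 3,
    val hF 2 • eI 4 + val hF 2 ^ 2 • eI 5]

theorem herm_av_av (i j : Fin 3) : herm 2 (av i : Fin 6 → F) (av j) = 0 := by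
  fin_cases i <;> fin_cases j <;>
    simp [av, herm_add_left, herm_add_right hF, herm_eI_eI hF] <;> linear_combination two_zero hF

theorem herm_fv_fv (i j : Fin 3) : herm 2 (fv hF i) (fv hF j) = 0 := by
  fin_cases i <;> fin_cases j <;>
    simp [fv, herm_add_left, herm_add_right hF, herm_smul_left, herm_smul_right hF, herm_eI_eI hF] <;>
    linear_combination (val hF 2 ^ 3) * two_zero hF + (val hF 2 ^ 2) * pow_four hF (val hF 2)

theorem herm_av_fv (i j : Fin 3) : herm 2 (av i) (fv hF j) = if i = j then 1 else 0 := by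
  fin_cases i <;> fin_cases j <;>
    simp [av, fv, herm_add_left, herm_add_right hF, herm_smul_right hF, herm_eI_eI hF] <;>
    linear_combination pow_four hF (val hF 2) + omega_spec hF - two_zero hF

theorem herm_fv_av (i j : Fin 3) : herm 2 (fv hF i) (av j) = if i = j then 1 else 0 := by
  rw [herm_swap hF (av j) (fv hF i), herm_av_fv hF]
  by_cases h : i = j <;> simp [h, Ne.symm]

theorem expand (x : Fin 6 → F) :
    x = ∑ i, (herm 2 x (fv hF i) • av i + herm 2 x (av i) • fv hF i) := by
  set w := val hF 2 with hw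
  have hs : w ^ 2 + w + 1 = 0 := omega_spec hF
  have h4 := pow_four hF w
  have h2 := two_zero hF
  funext k
  simp only [Fin.sum_univ_three, av, fv, ← hw, Matrix.cons_val_zero, Matrix.cons_val_one,
    Matrix.cons_val, herm_add_right hF, herm_smul_right hF, herm_eI_right hF]
  fin_cases k <;> simp [eI] <;> grind

theorem mem_LA_of_orth {x : Fin 6 → F} (h : ∀ i, herm 2 x (av i) = 0) : x ∈ LA := by
  rw [expand hF x]
  refine Submodule.sum_mem _ fun i _ => ?_
  rw [h i, zero_smul, add_zero]
  exact Submodule.smul_mem _ _ (av_mem i)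

theorem orth_LA {x : Fin 6 → F} (hx : x ∈ LA) (i : Fin 3) : herm 2 x (av i) = 0 := by
  induction hx using Submodule.span_induction with
  | mem y hy => obtain ⟨j, rfl⟩ := hy; exact herm_av_av hF j i
  | zero => exact herm_zero_left _
  | add a b _ _ ha hb => rw [herm_add_left, ha, hb, add_zero]
  | smul a y _ hy => rw [herm_smul_left, hy, mul_zero]

theorem isotropic_LA {x y : Fin 6 → F} (hx : x ∈ LA) (hy : y ∈ LA) : herm 2 x y = 0 := by
  induction hy using Submodule.span_induction with
  | mem z hz => obtain ⟨j, rfl⟩ := hz; exact orth_LA hF hx j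
  | zero => exact herm_zero_right hF _
  | add a b _ _ ha hb => rw [herm_add_right hF, ha, hb, add_zero]
  | smul a z _ hz => rw [herm_smul_right hF, hz, mul_zero]

theorem fix_LA {g : SU 6 F 2} (hg : g ∈ E) {x : Fin 6 → F} (hx : x ∈ LA) : g • x = x := by
  induction hx using Submodule.span_induction with
  | mem z hz => obtain ⟨j, rfl⟩ := hz; exact mem_E.1 hg j
  | zero => exact smul_zero _
  | add a b _ _ ha hb => rw [smul_add, ha, hb]
  | smul a z _ hz => rw [smul_comm, hz]

/-- The coordinates of an element. -/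
noncomputable def key (g : SU 6 F 2) (i j : Fin 3) : F := herm 2 (nil g (fv hF i)) (fv hF j)

theorem nil_mem_LA {g : SU 6 F 2} (hg : g ∈ E) (x : Fin 6 → F) : nil g x ∈ LA := by
  refine mem_LA_of_orth hF fun i => ?_
  rw [nil, herm_add_left]
  nth_rw 1 [← mem_E.1 hg i]
  rw [herm_smul_SU, add_self hF]

theorem key_mul {g h : SU 6 F 2} (hg : g ∈ E) (hh : h ∈ E) (i j : Fin 3) :
    key hF (g * h) i j = key hF g i j + key hF h i j := by
  have : nil (g * h) (fv hF i) = nil g (fv hF i) + nil h (fv hF i) := by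
    have e : g • nil h (fv hF i) = nil h (fv hF i) := fix_LA hF hg (nil_mem_LA hF hh _)
    have e2 : h • fv hF i = nil h (fv hF i) + fv hF i := by
      rw [nil, add_assoc, vec_add_self hF, add_zero]
    rw [nil, mul_smul, e2, smul_add, e]
    simp only [nil]
    abel
  rw [key, key, key, this, herm_add_left]

theorem key_injective {g h : SU 6 F 2} (hg : g ∈ E) (hh : h ∈ E)
    (he : ∀ i j, key hF g i j = key hF h i j) : g = h := by
  have hn : ∀ i, nil g (fv hF i) = nil h (fv hF i) := by
    intro i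
    rw [expand hF (nil g (fv hF i)), expand hF (nil h (fv hF i))]
    refine Finset.sum_congr rfl fun j _ => ?_
    rw [orth_LA hF (nil_mem_LA hF hg _) j, orth_LA hF (nil_mem_LA hF hh _) j,
      show herm 2 (nil g (fv hF i)) (fv hF j) = herm 2 (nil h (fv hF i)) (fv hF j) from he i j]
  refine eq_of_smul_eq_SU fun x => ?_
  rw [expand hF x]
  simp only [Finset.smul_sum, smul_add]
  refine Finset.sum_congr rfl fun i _ => ?_
  rw [smul_comm g, smul_comm h, smul_comm g, smul_comm h, mem_E.1 hg i, mem_E.1 hh i,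
    add_right_cancel (hn i)]

theorem key_one (i j : Fin 3) : key hF (1 : SU 6 F 2) i j = 0 := by
  rw [key, nil, one_smul, vec_add_self hF, herm_zero_left]

theorem E_comm {g h : SU 6 F 2} (hg : g ∈ E) (hh : h ∈ E) : g * h = h * g :=
  key_injective hF (mul_mem hg hh) (mul_mem hh hg) fun i j => by
    rw [key_mul hF hg hh, key_mul hF hh hg, add_comm]

theorem E_sq {g : SU 6 F 2} (hg : g ∈ E) : g * g = 1 :=
  key_injective hF (mul_mem hg hg) (one_mem _) fun i j => by
    rw [key_mul hF hg hg, add_self hF, key_one]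

theorem zero_cond (u : Fin 6 → F) (hu : herm 2 u u = 0) : (0 : F) + 0 ^ 2 = -herm 2 u u := by
  rw [hu]; simp

theorem herm_smul_av (i j : Fin 3) (β : F) : herm 2 (β • (av j : Fin 6 → F)) (av i) = 0 := by
  rw [herm_smul_left, herm_av_av hF, mul_zero]

theorem herm_smul_av_self (j : Fin 3) (β : F) :
    herm 2 (β • (av j : Fin 6 → F)) (β • av j) = 0 := by
  rw [herm_smul_left, herm_smul_right hF, herm_av_av hF, mul_zero, mul_zero]

/-- The element with one pair of off-diagonal coordinates. -/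
noncomputable def offEl (i j : Fin 3) (β : F) : SU 6 F 2 :=
  Qel hF (u := av i) (w := β • av j) (b := 0) (herm_av_av hF i i) (herm_smul_av hF i j β)
    (zero_cond hF _ (herm_smul_av_self hF j β))

theorem offEl_mem (i j : Fin 3) (β : F) : offEl hF i j β ∈ E :=
  mem_E.2 fun k => by
    rw [offEl, Qel_smul, herm_smul_right hF, herm_av_av hF, herm_av_av hF]
    simp

theorem offEl_key (i j : Fin 3) (β : F) (k l : Fin 3) :
    key hF (offEl hF i j β) k l = (if k = i ∧ l = j then β else 0) +
      if k = j ∧ l = i then β ^ 2 else 0 := by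
  have h2 := two_zero hF
  rw [key, nil, offEl, Qel_smul, herm_smul_right hF, herm_fv_av hF, herm_fv_av hF]
  simp only [herm_add_left, herm_sub_left, herm_smul_left, herm_fv_fv hF, herm_av_fv hF]
  by_cases h1 : k = i <;> by_cases h3 : k = j <;> by_cases h5 : l = i <;> by_cases h7 : l = j <;>
    simp [h1, h3, h5, h7, eq_comm] <;> grind

/-- The element with one diagonal coordinate. -/
noncomputable def diagEl (i : Fin 3) (a : Fin 2) : SU 6 F 2 :=
  if a = 0 then 1 else CoverInvolution.T hF (herm_av_av hF i i)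

theorem diagEl_mem (i : Fin 3) (a : Fin 2) : diagEl hF i a ∈ E := by
  rw [diagEl]
  split
  · exact one_mem _
  · exact mem_E.2 fun k => by rw [CoverInvolution.T_smul, herm_av_av hF, zero_smul, add_zero]

theorem diagEl_key (i : Fin 3) (a : Fin 2) (k l : Fin 3) :
    key hF (diagEl hF i a) k l = if k = i ∧ l = i then val hF (Fin.castLE (by norm_num) a) else 0 := by
  fin_cases a
  · simp [diagEl, key_one hF, val]
  · rw [key, nil]
    simp only [diagEl, CoverInvolution.T_smul, herm_add_left, herm_smul_left, herm_fv_fv hF,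
      herm_fv_av hF, herm_av_fv hF, if_neg (show ¬((⟨1, by norm_num⟩ : Fin 2) = 0) by decide)]
    by_cases h1 : k = i <;> by_cases h3 : l = i <;> simp [h1, h3, eq_comm, val] <;> exact Ne.symm h3

/-- The element with given coordinates. -/
noncomputable def elt (p : Par) : SU 6 F 2 :=
  diagEl hF 0 p.1 * (diagEl hF 1 p.2.1 * (diagEl hF 2 p.2.2.1 *
    (offEl hF 0 1 (val hF p.2.2.2.1) * (offEl hF 0 2 (val hF p.2.2.2.2.1) *
      offEl hF 1 2 (val hF p.2.2.2.2.2)))))

theorem elt_mem (p : Par) : elt hF p ∈ E :=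
  mul_mem (diagEl_mem hF _ _) (mul_mem (diagEl_mem hF _ _) (mul_mem (diagEl_mem hF _ _)
    (mul_mem (offEl_mem hF _ _ _) (mul_mem (offEl_mem hF _ _ _) (offEl_mem hF _ _ _)))))

theorem elt_key (p : Par) (i j : Fin 3) : key hF (elt hF p) i j = val hF (mat p i j) := by
  have d := diagEl_mem hF
  have o := offEl_mem hF
  rw [elt, key_mul hF (d _ _) (mul_mem (d _ _) (mul_mem (d _ _) (mul_mem (o _ _ _) (mul_mem (o _ _ _) (o _ _ _))))),
    key_mul hF (d _ _) (mul_mem (d _ _) (mul_mem (o _ _ _) (mul_mem (o _ _ _) (o _ _ _)))),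
    key_mul hF (d _ _) (mul_mem (o _ _ _) (mul_mem (o _ _ _) (o _ _ _))),
    key_mul hF (o _ _ _) (mul_mem (o _ _ _) (o _ _ _)), key_mul hF (o _ _ _) (o _ _ _),
    diagEl_key, diagEl_key, diagEl_key, offEl_key, offEl_key, offEl_key]
  fin_cases i <;> fin_cases j <;> simp [mat, val_sq]

theorem elt_injective : Function.Injective (elt hF) := fun p p' h =>
  mat_injective (funext fun i => funext fun j => val_injective hF (by
    rw [← elt_key, ← elt_key, h]))

theorem exists_elt {g : SU 6 F 2} (hg : g ∈ E) : ∃ p, elt hF p = g := by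
  have hsym : ∀ i j, key hF g j i = key hF g i j ^ 2 := by
    intro i j
    rw [key, key, ← herm_swap hF, nil_sym hF (E_sq hF hg)]
  have hd : ∀ i, ∃ a : Fin 2, val hF (Fin.castLE (by norm_num) a) = key hF g i i := by
    intro i
    rcases fixed_bit hF (hsym i i).symm with h | h
    · exact ⟨0, by rw [h]; simp [val]⟩
    · exact ⟨1, by rw [h]; simp [val]⟩
  obtain ⟨a, ha⟩ := hd 0
  obtain ⟨b, hb⟩ := hd 1
  obtain ⟨c, hc⟩ := hd 2
  obtain ⟨x, hx⟩ := exists_val hF (key hF g 0 1)
  obtain ⟨y, hy⟩ := exists_val hF (key hF g 0 2)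
  obtain ⟨z, hz⟩ := exists_val hF (key hF g 1 2)
  refine ⟨(a, b, c, x, y, z), key_injective hF (elt_mem hF _) hg fun i j => ?_⟩
  rw [elt_key]
  fin_cases i <;> fin_cases j <;>
    simp [mat, val_sq, ha, hb, hc, hx, hy, hz, ← hsym]

theorem card_E : Nat.card (E : Subgroup (SU 6 F 2)) = 2 ^ 9 := by
  rw [← Nat.card_congr (Equiv.ofBijective (fun p : Par => (⟨elt hF p, elt_mem hF p⟩ : E (F := F)))
    ⟨fun p p' h => elt_injective hF (Subtype.ext_iff.1 h), fun g => by
      obtain ⟨p, hp⟩ := exists_elt hF g.2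
      exact ⟨p, Subtype.ext hp⟩⟩)]
  simp

/-- A totally isotropic subspace can be moved inside the frame. -/
theorem exists_into_LA (W : Submodule F (Fin 6 → F)) (hW : ∀ x ∈ W, ∀ y ∈ W, herm 2 x y = 0)
    (hk : Module.finrank F W ≤ 3) : ∃ g : SU 6 F 2, ∀ x ∈ W, g • x ∈ LA := by
  classical
  let bW := Module.finBasis F W
  obtain ⟨f, hf⟩ := LinearMap.exists_extend (bW.constr F fun i => (av (Fin.castLE hk i) : Fin 6 → F))
  have hfW : ∀ (x : Fin 6 → F) (hx : x ∈ W),
      f x = ∑ i, bW.repr ⟨x, hx⟩ i • (av (Fin.castLE hk i) : Fin 6 → F) := fun x hx => by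
    have := LinearMap.congr_fun hf ⟨x, hx⟩
    rw [Module.Basis.constr_apply_fintype, LinearMap.comp_apply] at this
    simpa [Module.Basis.equivFun_apply] using this
  have hfA : ∀ x ∈ W, f x ∈ LA := fun x hx => by
    rw [hfW x hx]
    exact Submodule.sum_mem _ fun i _ => Submodule.smul_mem _ _ (av_mem _)
  obtain ⟨h, -, hh⟩ := exists_fixGU_of_map hF (∅ : Finset (Fin 6)) W f (by simp) (by simp)
    (fun x hx h0 => by
      rw [hfW x hx] at h0
      have : bW.repr ⟨x, hx⟩ = 0 := Finsupp.ext fun i => by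
        have := congrArg (fun v => herm 2 v (fv hF (Fin.castLE hk i))) h0
        simp only [herm_sum_left, herm_smul_left, herm_av_fv hF, herm_zero_left] at this
        simpa [Finset.sum_ite_eq', (Fin.castLE_injective hk).eq_iff] using this
      have h' : (⟨x, hx⟩ : W) = 0 := bW.repr.map_eq_zero_iff.1 this
      exact congrArg Subtype.val h')
    (fun x hx y hy => by rw [hW x hx y hy, isotropic_LA hF (hfA x hx) (hfA y hy)])
  set M : Matrix (Fin 6) (Fin 6) F := ((h : GL (Fin 6) F) : Matrix (Fin 6) (Fin 6) F) with hM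
  have hform : ∀ x y, herm 2 (M.mulVec x) (M.mulVec y) = herm 2 x y := fun x y => herm_smul_GU h x y
  have hd : M.det ≠ 0 := det_ne_zero_of_form hF M hform
  set c := (M.det⁻¹) ^ 2 with hc
  have hc3 : c ^ 3 = 1 := by
    have := FiniteField.pow_card_sub_one_eq_one _ (inv_ne_zero hd)
    rw [hF] at this
    norm_num at this
    rw [hc, ← pow_mul, mul_comm, pow_mul, inv_pow, this, inv_one, one_pow]
  let D : Matrix (Fin 6) (Fin 6) F := Matrix.diagonal ![c, c, 1, 1, 1, 1]
  have hDform : ∀ x y, herm 2 (D.mulVec x) (D.mulVec y) = herm 2 x y := by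
    intro x y
    simp only [herm, hermForm, D, Matrix.mulVec_diagonal]
    refine Finset.sum_congr rfl fun j _ => ?_
    fin_cases j <;> simp <;>
      first | ring1 | linear_combination (x 0 * y 0 ^ 2) * hc3 | linear_combination (x 1 * y 1 ^ 2) * hc3
  have hdet : (D * M).det = 1 := by
    have h4 := pow_four hF M.det⁻¹
    rw [Matrix.det_mul, Matrix.det_diagonal]
    simp [Fin.prod_univ_six, hc]
    rw [← inv_pow]
    linear_combination M.det * h4 + inv_mul_cancel₀ hd
  have hD : ∀ v ∈ (LA : Submodule F (Fin 6 → F)), D.mulVec v ∈ LA := by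
    intro v hv
    refine mem_LA_of_orth hF fun i => ?_
    have hav : ∃ d : F, D.mulVec (av i) = d • av i ∧ d ≠ 0 := by
      fin_cases i
      · exact ⟨c, by funext k; fin_cases k <;> simp [D, Matrix.mulVec_diagonal, av, eI],
          fun e => by simp [e] at hc3⟩
      · exact ⟨1, by funext k; fin_cases k <;> simp [D, Matrix.mulVec_diagonal, av, eI], one_ne_zero⟩
      · exact ⟨1, by funext k; fin_cases k <;> simp [D, Matrix.mulVec_diagonal, av, eI], one_ne_zero⟩
    obtain ⟨d, he, hd0⟩ := hav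
    have := hDform v (av i)
    rw [he, herm_smul_right hF, orth_LA hF hv i] at this
    exact (mul_eq_zero.1 this).resolve_left (pow_ne_zero _ hd0)
  refine ⟨⟨⟨D * M, hdet⟩, fun x y => ?_⟩, fun x hx => ?_⟩
  · show herm 2 ((D * M).mulVec x) ((D * M).mulVec y) = herm 2 x y
    rw [← Matrix.mulVec_mulVec, ← Matrix.mulVec_mulVec, hDform, hform]
  · show (D * M).mulVec x ∈ LA
    rw [← Matrix.mulVec_mulVec]
    refine hD _ ?_
    rw [show M.mulVec x = f x from hh x hx]
    exact hfA x hx

theorem finrank_LA_le : Module.finrank F (LA : Submodule F (Fin 6 → F)) ≤ 3 :=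
  (finrank_range_le_card (R := F) (av : Fin 3 → Fin 6 → F)).trans (by simp)

theorem finrank_isotropic (W : Submodule F (Fin 6 → F)) (hW : ∀ x ∈ W, ∀ y ∈ W, herm 2 x y = 0) :
    Module.finrank F W ≤ 3 := by
  by_contra hk
  let bW := Module.finBasis F W
  let X := Submodule.span F (Set.range fun i : Fin 3 => (bW (Fin.castLE (by omega) i) : Fin 6 → F))
  have hli : LinearIndependent F fun i : Fin 3 => (bW (Fin.castLE (by omega) i) : Fin 6 → F) :=
    (bW.linearIndependent.map' W.subtype W.ker_subtype).comp _ (Fin.castLE_injective _)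
  have hXW : X ≤ W := Submodule.span_le.2 (by rintro _ ⟨i, rfl⟩; exact Subtype.coe_prop _)
  have hX3 : Module.finrank F X = 3 := by simp [X, finrank_span_eq_card hli]
  obtain ⟨g, hg⟩ := exists_into_LA hF X (fun x hx y hy => hW x (hXW hx) y (hXW hy)) hX3.le
  let L : (Fin 6 → F) →ₗ[F] (Fin 6 → F) := DistribSMul.toLinearMap F (Fin 6 → F) g
  have hL : Function.Injective L := MulAction.injective g
  have hX : X.map L = LA := Submodule.eq_of_le_of_finrank_le
    (Submodule.map_le_iff_le_comap.2 hg)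
    (by rw [← (Submodule.equivMapOfInjective L hL X).finrank_eq, hX3]; exact finrank_LA_le hF)
  have hWL : W.map L ≤ LA := by
    rintro _ ⟨w, hw, rfl⟩
    refine mem_LA_of_orth hF fun i => ?_
    obtain ⟨x, hx, he⟩ : (av i : Fin 6 → F) ∈ X.map L := hX ▸ av_mem i
    rw [← he]
    exact (herm_smul_SU g w x).trans (hW w hw x (hXW hx))
  have := Submodule.finrank_mono hWL
  rw [← (Submodule.equivMapOfInjective L hL W).finrank_eq] at this
  have := finrank_LA_le hF (F := F)
  omega

/-- Subgroups whose nilpotent parts multiply to zero are inside a conjugate of `E`. -/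
theorem exists_conj_of_nil (B : Subgroup (SU 6 F 2)) (hsq : ∀ u ∈ B, u * u = 1)
    (hnil : ∀ u ∈ B, ∀ v ∈ B, ∀ x : Fin 6 → F, nil u (nil v x) = 0) :
    ∃ g : SU 6 F 2, ∀ b ∈ B, g * b * g⁻¹ ∈ E := by
  let W := Submodule.span F {y : Fin 6 → F | ∃ b ∈ B, ∃ x, y = nil b x}
  have hW : ∀ x ∈ W, ∀ y ∈ W, herm 2 x y = 0 := by
    intro x hx y hy
    induction hx using Submodule.span_induction with
    | mem a ha =>
      obtain ⟨b, hb, a', rfl⟩ := ha
      induction hy using Submodule.span_induction with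
      | mem z hz =>
        obtain ⟨c, hc, z', rfl⟩ := hz
        rw [nil_sym hF (hsq b hb), hnil b hb c hc, herm_zero_right hF]
      | zero => exact herm_zero_right hF _
      | add z z' _ _ h h' => rw [herm_add_right hF, h, h', add_zero]
      | smul a z _ h => rw [herm_smul_right hF, h, mul_zero]
    | zero => exact herm_zero_left _
    | add z z' _ _ h h' => rw [herm_add_left, h, h', add_zero]
    | smul a z _ h => rw [herm_smul_left, h, mul_zero]
  obtain ⟨g, hg⟩ := exists_into_LA hF W hW (finrank_isotropic hF W hW)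
  refine ⟨g, fun b hb => mem_E.2 fun i => ?_⟩
  have h0 : nil b (g⁻¹ • (av i : Fin 6 → F)) = 0 := by
    refine eq_zero_of_herm hF fun y => ?_
    rw [nil_sym hF (hsq b hb), ← herm_smul_SU g, smul_inv_smul]
    exact isotropic_LA hF (av_mem i) (hg _ (Submodule.subset_span ⟨b, hb, y, rfl⟩))
  have : b • g⁻¹ • (av i : Fin 6 → F) = g⁻¹ • av i := by
    have := congrArg (fun v => v + g⁻¹ • (av i : Fin 6 → F)) h0
    simpa [nil, add_assoc, vec_add_self hF] using this
  rw [mul_smul, mul_smul, this, smul_inv_smul]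

/-- Large elementary abelian subgroups are conjugate to `E`. -/
theorem exists_conj_eq (B : Subgroup (SU 6 F 2)) (hcomm : ∀ u ∈ B, ∀ v ∈ B, u * v = v * u)
    (hsq : ∀ u ∈ B, u * u = 1) (hcard : 2 ^ 9 ≤ Nat.card B) :
    ∃ g : SU 6 F 2, B.map (MulAut.conj g).toMonoidHom = E := by
  obtain ⟨g, hg⟩ := exists_conj_of_nil hF B hsq fun u hu v hv x =>
    nil_mul_eq_zero hF B hcomm hsq hcard hu hv x
  refine ⟨g, Subgroup.eq_of_le_of_card_ge (Subgroup.map_le_iff_le_comap.2 hg) ?_⟩
  rw [card_E hF, Subgroup.card_map_of_injective (MulAut.conj g).injective]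
  exact hcard

/-- Every element squaring to one is conjugate into `E`. -/
theorem exists_conj_mem {b : SU 6 F 2} (hb : b * b = 1) : ∃ g : SU 6 F 2, g * b * g⁻¹ ∈ E := by
  have hmem : ∀ u ∈ Subgroup.zpowers b, u = 1 ∨ u = b := by
    intro u hu
    obtain ⟨k, rfl⟩ := Subgroup.mem_zpowers_iff.1 hu
    have h2 : b ^ (2 : ℤ) = 1 := by rw [zpow_two, hb]
    rcases Int.even_or_odd k with ⟨m, rfl⟩ | ⟨m, rfl⟩
    · left; rw [← two_mul, zpow_mul, h2, one_zpow]
    · right; rw [zpow_add_one, zpow_mul, h2, one_zpow, one_mul]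
  have h1 : ∀ x : Fin 6 → F, nil (1 : SU 6 F 2) x = 0 := fun x => by
    rw [nil, one_smul, vec_add_self hF]
  obtain ⟨g, hg⟩ := exists_conj_of_nil hF (Subgroup.zpowers b)
    (fun u hu => by rcases hmem u hu with rfl | rfl; exacts [one_mul 1, hb])
    (fun u hu v hv x => by
      rcases hmem v hv with rfl | rfl
      · rw [h1, nil, smul_zero, add_zero]
      · rcases hmem u hu with rfl | rfl
        · exact h1 _
        · exact nil_nil hF hb x)
  exact ⟨g, hg b (Subgroup.mem_zpowers b)⟩

theorem scalar_eq_one {g : SU 6 F 2} (hg : g ∈ E) (hz : g ∈ Subgroup.center (SU 6 F 2)) : g = 1 := by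
  obtain ⟨r, hr⟩ := (mem_center_iff hF (by norm_num)).1 hz
  have h0 := congrFun ((hr (av 0)).symm.trans (mem_E.1 hg 0)) 0
  simp [av, eI] at h0
  refine eq_of_smul_eq_SU fun x => ?_
  rw [hr, h0, one_smul, one_smul]

/-- Conjugates of `E` whose images lie in one two-subgroup of `PSU₆(2)` coincide. -/
theorem conj_eq_of_le {P : Subgroup (PSU 6 F 2)} (hP : IsPGroup 2 P) {k : SU 6 F 2}
    (h1 : ∀ g ∈ (E : Subgroup (SU 6 F 2)), (QuotientGroup.mk g : PSU 6 F 2) ∈ P)
    (h2 : ∀ g ∈ (E : Subgroup (SU 6 F 2)), (QuotientGroup.mk (k * g * k⁻¹) : PSU 6 F 2) ∈ P)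
    {g : SU 6 F 2} (hg : g ∈ E) : k * g * k⁻¹ ∈ E := by
  have t2 := two_zero hF
  by_cases hall : ∀ i j, herm 2 (av i : Fin 6 → F) (k • av j) = 0
  · refine mem_E.2 fun i => ?_
    have hin : k⁻¹ • (av i : Fin 6 → F) ∈ LA := mem_LA_of_orth hF fun j => by
      rw [← herm_smul_SU k, smul_inv_smul]
      exact hall i j
    rw [mul_smul, mul_smul, fix_LA hF hg hin, smul_inv_smul]
  exfalso
  push Not at hall
  obtain ⟨i, j, hij⟩ := hall
  set w : Fin 6 → F := av i with hw
  set u : Fin 6 → F := k • av j with hu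
  set c := herm 2 w u with hc
  have hww : herm 2 w w = 0 := herm_av_av hF i i
  have huu : herm 2 u u = 0 := (herm_smul_SU k _ _).trans (herm_av_av hF j j)
  have hc3 : c ^ 3 = 1 := (cube_or hF c).resolve_left (pow_ne_zero _ hij)
  have huw : herm 2 u w = c ^ 2 := herm_swap hF w u
  set t : SU 6 F 2 := CoverInvolution.T hF hww * CoverInvolution.T hF huu with ht
  have htx : ∀ x, t • x = x + herm 2 x u • u + (herm 2 x w + herm 2 x u * c ^ 2) • w := fun x => by
    rw [ht, mul_smul, CoverInvolution.T_smul, CoverInvolution.T_smul, herm_add_left, herm_smul_left,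
      huw]
  have hmem : (QuotientGroup.mk t : PSU 6 F 2) ∈ P := by
    rw [ht, QuotientGroup.mk_mul]
    refine mul_mem (h1 _ ?_) ?_
    · exact mem_E.2 fun l => by
        rw [CoverInvolution.T_smul, hw, herm_av_av hF, zero_smul, add_zero]
    · have hT := h2 (CoverInvolution.T hF (herm_av_av hF j j))
        (mem_E.2 fun l => by rw [CoverInvolution.T_smul, herm_av_av hF, zero_smul, add_zero])
      rw [conj_tv] at hT
      exact hT
  have hcube : t ^ 3 = 1 := by
    refine eq_of_smul_eq_SU fun x => ?_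
    rw [pow_succ, pow_two, mul_smul, mul_smul, one_smul]
    simp only [htx, herm_add_left, herm_smul_left, huw, hww, huu, ← hc]
    funext l
    simp only [Pi.add_apply, Pi.smul_apply, smul_eq_mul]
    grind
  have ht1 : (QuotientGroup.mk t : PSU 6 F 2) = 1 := by
    obtain ⟨n, hn⟩ := hP ⟨_, hmem⟩
    have hn' : (QuotientGroup.mk t : PSU 6 F 2) ^ 2 ^ n = 1 := congrArg Subtype.val hn
    have h3 : (QuotientGroup.mk t : PSU 6 F 2) ^ 3 = 1 := by
      rw [← QuotientGroup.mk_pow, hcube]; rfl
    have hco : Nat.Coprime 3 (2 ^ n) := Nat.Coprime.pow_right n (by norm_num)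
    have hg1 : (QuotientGroup.mk t : PSU 6 F 2) ^ Nat.gcd 3 (2 ^ n) = 1 :=
      pow_gcd_eq_one.2 ⟨h3, hn'⟩
    rwa [hco.gcd_eq_one, pow_one] at hg1
  obtain ⟨r, hr⟩ := (mem_center_iff hF (by norm_num)).1 ((QuotientGroup.eq_one_iff t).1 ht1)
  have e := congrArg (fun v => herm 2 v w) ((hr w).symm.trans (htx w))
  simp only [herm_smul_left, herm_add_left, hww, huw, ← hc] at e
  have : c ^ 3 = 0 := by linear_combination -e
  rw [hc3] at this
  exact one_ne_zero this

end Cfsg.Agent.U6Thompson
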